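import Mathlib.AlgebraicGeometry.Morphisms.IsIso
import Mathlib.AlgebraicGeometry.Morphisms.Affine
import Mathlib.AlgebraicGeometry.Morphisms.Flat
import Mathlib.RingTheory.Localization.Away.Basic
import Groth.Agent.AlgSpBasic.EqualizerOpen

/-!
# Affine models agreeing with an affine scheme on a union of basic opens
-/

set_option autoImplicit false
set_option backward.isDefEq.respectTransparency.types false
universe u

open CategoryTheory CategoryTheory.Limits AlgebraicGeometry TopologicalSpace TensorProduct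

namespace Groth.AlgSp2.QcAffine

/-- A morphism of affine schemes injective on functions is an isomorphism above a basic open over
which all functions come from the model. -/
theorem isIso_restrict_basicOpen {N T : Scheme.{u}} [IsAffine N] [IsAffine T] (f : N ⟶ T)
    (hinj : Function.Injective f.appTop) (β : Γ(T, ⊤))
    (hs : ∀ x : Γ(N, ⊤), ∃ (n : ℕ) (y : Γ(T, ⊤)), f.appTop y = f.appTop β ^ n * x) :
    IsIso (f ∣_ T.basicOpen β) := by
  have hD : IsAffineOpen (T.basicOpen β) := (isAffineOpen_top T).basicOpen β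
  have : IsAffine (T.basicOpen β).toScheme := hD
  have hE : IsAffineOpen (N.basicOpen (f.appTop β)) := (isAffineOpen_top N).basicOpen _
  have he : f ⁻¹ᵁ T.basicOpen β = N.basicOpen (f.appTop β) := Scheme.preimage_basicOpen_top f β
  have : IsAffine (f ⁻¹ᵁ T.basicOpen β).toScheme := by rw [he]; exact hE
  apply Groth.AlgSpBasic.isIso_of_bijective_appTop
  -- the map on functions of the basic opens
  let _ : Algebra Γ(T, ⊤) Γ(T, T.basicOpen β) :=
    (T.presheaf.map (homOfLE (le_top : T.basicOpen β ≤ ⊤)).op).hom.toAlgebra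
  let _ : Algebra Γ(N, ⊤) Γ(N, f ⁻¹ᵁ T.basicOpen β) :=
    (N.presheaf.map (homOfLE (le_top : f ⁻¹ᵁ T.basicOpen β ≤ ⊤)).op).hom.toAlgebra
  have : IsLocalization.Away β Γ(T, T.basicOpen β) := (isAffineOpen_top T).isLocalization_basicOpen β
  have : IsLocalization.Away (f.appTop β) Γ(N, f ⁻¹ᵁ T.basicOpen β) := by
    have key : ∀ (V : N.Opens) (hV : V = N.basicOpen (f.appTop β)),
        @IsLocalization.Away _ _ (f.appTop β) Γ(N, V) _
          (N.presheaf.map (homOfLE (le_top : V ≤ ⊤)).op).hom.toAlgebra := by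
      rintro _ rfl
      exact (isAffineOpen_top N).isLocalization_basicOpen _
    exact key _ he
  have hnat : ∀ a : Γ(T, ⊤), f.app (T.basicOpen β) (algebraMap Γ(T, ⊤) Γ(T, T.basicOpen β) a) =
      algebraMap Γ(N, ⊤) Γ(N, f ⁻¹ᵁ T.basicOpen β) (f.appTop a) := fun a =>
    ConcreteCategory.congr_hom (f.naturality (homOfLE (le_top : T.basicOpen β ≤ ⊤)).op) a
  have hb : Function.Bijective (f.app (T.basicOpen β)) := by
    constructor
    · rw [injective_iff_map_eq_zero]
      intro z hz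
      obtain ⟨n, a, ha⟩ := IsLocalization.Away.surj β z
      have h0 : algebraMap Γ(N, ⊤) Γ(N, f ⁻¹ᵁ T.basicOpen β) (f.appTop a) = 0 := by
        rw [← hnat, ← ha, map_mul, hz, zero_mul]
      obtain ⟨⟨_, m, rfl⟩, hm⟩ :=
        (IsLocalization.map_eq_zero_iff (Submonoid.powers (f.appTop β)) _ _).1 h0
      have ha0 : β ^ m * a = 0 := hinj (by rw [map_zero, map_mul, map_pow]; exact hm)
      have hu : IsUnit (algebraMap Γ(T, ⊤) Γ(T, T.basicOpen β) β) :=
        IsLocalization.Away.algebraMap_isUnit β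
      have : algebraMap Γ(T, ⊤) Γ(T, T.basicOpen β) β ^ m *
          (z * algebraMap Γ(T, ⊤) Γ(T, T.basicOpen β) β ^ n) = 0 := by
        rw [ha, ← map_pow, ← map_mul, ha0, map_zero]
      exact (hu.pow n).mul_left_eq_zero.1 ((hu.pow m).mul_right_eq_zero.1 this)
    · intro w
      obtain ⟨n, x, hx⟩ := IsLocalization.Away.surj (f.appTop β) w
      obtain ⟨k, y, hy⟩ := hs x
      have hu : IsUnit (algebraMap Γ(T, ⊤) Γ(T, T.basicOpen β) β ^ (k + n)) :=
        (IsLocalization.Away.algebraMap_isUnit β).pow _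
      refine ⟨algebraMap Γ(T, ⊤) Γ(T, T.basicOpen β) y * ↑hu.unit⁻¹, ?_⟩
      apply (hu.map (f.app (T.basicOpen β)).hom).mul_left_injective
      show _ * f.app (T.basicOpen β) _ = w * f.app (T.basicOpen β) _
      rw [← map_mul, mul_assoc, IsUnit.val_inv_mul, mul_one, hnat, hy, map_pow, hnat, map_mul,
        map_pow, pow_add, mul_left_comm, hx]
  rw [morphismRestrict_appTop]
  have hb' : Function.Bijective (f.app ((T.basicOpen β).ι ''ᵁ ⊤)) := by
    have : (T.basicOpen β).ι ''ᵁ ⊤ = T.basicOpen β := by simp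
    rw [this]
    exact hb
  exact ((ConcreteCategory.bijective_of_isIso
    (N.presheaf.map (eqToHom (image_morphismRestrict_preimage f _ ⊤)).op)).comp hb')

/-- A morphism of affine schemes injective on functions induces an open immersion on a union of
basic opens over which all functions come from the model. -/
theorem isOpenImmersion_of_basicOpens {N T : Scheme.{u}} [IsAffine N] [IsAffine T] (f : N ⟶ T)
    (hinj : Function.Injective f.appTop) {ι : Type*} (β : ι → Γ(T, ⊤)) (W : N.Opens)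
    (hW : W = ⨆ i, N.basicOpen (f.appTop (β i)))
    (hs : ∀ i, ∀ x : Γ(N, ⊤), ∃ (n : ℕ) (y : Γ(T, ⊤)), f.appTop y = f.appTop (β i) ^ n * x) :
    IsOpenImmersion (W.ι ≫ f) := by
  let D : ι → T.Opens := fun i => T.basicOpen (β i)
  have he : f ⁻¹ᵁ (⨆ i, D i) = W := by
    rw [hW, Scheme.Hom.preimage_iSup]
    simp only [D, Scheme.preimage_basicOpen_top]
  have : IsIso (f ∣_ ⨆ i, D i) := by
    have := IsZariskiLocalAtTarget.of_iSup_eq_top (P := MorphismProperty.isomorphisms Scheme.{u})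
      (f := f ∣_ ⨆ i, D i) (fun i => (⨆ i, D i).ι ⁻¹ᵁ D i)
      (by rw [← Scheme.Hom.preimage_iSup, Scheme.Opens.ι_preimage_self]) fun i => by
        rw [MorphismProperty.arrow_mk_iso_iff (MorphismProperty.isomorphisms Scheme.{u})
          (morphismRestrictRestrict f (⨆ i, D i) _), Scheme.Hom.image_preimage_eq_opensRange_inf, Scheme.Opens.opensRange_ι]
        rw [inf_eq_right.2 (le_iSup D i)]
        exact isIso_restrict_basicOpen f hinj (β i) (hs i)
    exact this
  subst he
  rw [← morphismRestrict_ι]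
  infer_instance

/-- Injectivity on functions is preserved by flat base change. -/
theorem injective_appTop_of_isPullback {U U' Q Q' : Scheme.{u}} [IsAffine U] [IsAffine Q]
    [IsAffine Q'] {π : U ⟶ Q} {k : Q' ⟶ Q} [Flat k] {kU : U' ⟶ U} {π' : U' ⟶ Q'}
    (h : IsPullback kU π' π k) (hinj : Function.Injective π.appTop) :
    Function.Injective π'.appTop := by
  have pB := isPushout_appTop_of_isPullback h
  let _ : Algebra Γ(Q, ⊤) Γ(U, ⊤) := π.appTop.hom.toAlgebra
  let _ : Algebra Γ(Q, ⊤) Γ(Q', ⊤) := k.appTop.hom.toAlgebra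
  let _ : Algebra Γ(Q', ⊤) Γ(U', ⊤) := π'.appTop.hom.toAlgebra
  let _ : Algebra Γ(U, ⊤) Γ(U', ⊤) := kU.appTop.hom.toAlgebra
  let _ : Algebra Γ(Q, ⊤) Γ(U', ⊤) := (π' ≫ k).appTop.hom.toAlgebra
  have : IsScalarTower Γ(Q, ⊤) Γ(Q', ⊤) Γ(U', ⊤) :=
    IsScalarTower.of_algebraMap_eq' (congrArg CommRingCat.Hom.hom (Scheme.Hom.comp_appTop π' k))
  have : IsScalarTower Γ(Q, ⊤) Γ(U, ⊤) Γ(U', ⊤) :=
    IsScalarTower.of_algebraMap_eq' (congrArg CommRingCat.Hom.hom
      ((congrArg (fun f : U' ⟶ Q => f.appTop) h.w.symm).trans (Scheme.Hom.comp_appTop kU π)))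
  have : Module.Flat Γ(Q, ⊤) Γ(Q', ⊤) := k.flat_appTop
  have hp : Algebra.IsPushout Γ(Q, ⊤) Γ(Q', ⊤) Γ(U, ⊤) Γ(U', ⊤) :=
    CommRingCat.isPushout_iff_isPushout.1 pB.flip
  let e := hp.out.equiv
  have hl := Module.Flat.lTensor_preserves_injective_linearMap (M := Γ(Q', ⊤))
    (Algebra.linearMap Γ(Q, ⊤) Γ(U, ⊤)) hinj
  intro x y hxy
  have hx : ∀ z : Γ(Q', ⊤), e ((Algebra.linearMap Γ(Q, ⊤) Γ(U, ⊤)).lTensor Γ(Q', ⊤) (z ⊗ₜ 1)) =
      π'.appTop z := fun z => by
    rw [LinearMap.lTensor_tmul, hp.out.equiv_tmul]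
    simp only [Algebra.linearMap_apply, map_one, IsScalarTower.coe_toAlgHom',
      AlgHom.toLinearMap_apply, Algebra.smul_def, mul_one]
    rfl
  have := hl (e.injective ((hx x).trans (hxy.trans (hx y).symm)))
  simpa using congrArg (TensorProduct.rid Γ(Q, ⊤) Γ(Q', ⊤)) this

end Groth.AlgSp2.QcAffine
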