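import Groth.Agent.AlgSp3.NormGlobal

/-!
# Descent of a model over an etale chart whose gluing is unique

A generalisation of the descent of stable normalizations: it suffices that maps out of etale base
changes of the model are determined by their composites with the given morphism, and that the
gluing morphism exists.
-/

set_option autoImplicit false
set_option backward.isDefEq.respectTransparency.types false
universe u

open CategoryTheory CategoryTheory.Limits AlgebraicGeometry TopologicalSpace Opposite AlgSp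

namespace Groth.AlgSp2.QcAffine

open Groth.AlgSpBasic Groth.AlgSp3

noncomputable section

variable {S : Scheme.{u}} {X Y P Pt : Sp S} {U N R Nt : Over S} {p : (yon S).obj U ⟶ X} {f : Y ⟶ X}
  {qP : P ⟶ Y} {π : P ⟶ (yon S).obj U} {ν₀ : N ⟶ U} {f₀ : P ⟶ (yon S).obj N} {t s : R ⟶ U}
  {qt : Nt ⟶ N} {νt : Nt ⟶ R} {qPt : Pt ⟶ P} {πt : Pt ⟶ (yon S).obj R}

/-- Descent of a model on a chart. -/
theorem exists_quotient_of_model {Q : MorphismProperty Scheme.{u}} [Q.IsStableUnderBaseChange]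
    [Q.DescendsAlong (@Surjective ⊓ @Flat ⊓ @QuasiCompact)]
    (hX : IsAlgSpace X) (hp : RepWith @Etale p) (hps : RepWith @Surjective p)
    (sqP : IsPullback qP π f p) (hfac : f₀ ≫ (yon S).map ν₀ = π)
    (hN : AffWith Q ((yon S).map ν₀))
    (sqR : IsPullback ((yon S).map t) ((yon S).map s) p p)
    (sqt : IsPullback qt νt ν₀ t) (sqPt : IsPullback qPt πt π ((yon S).map t))
    (uniq : ∀ {V : Over S} (c d : V ⟶ U), Etale c.left → ∀ {Q' : Sp S} (qQ : Q' ⟶ P)
      (πQ : Q' ⟶ (yon S).obj V), IsPullback qQ πQ π ((yon S).map c) → ∀ {M : Over S} (qM : M ⟶ N)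
      (νM : M ⟶ V), IsPullback qM νM ν₀ c → ∀ (fM : Q' ⟶ (yon S).obj M),
      fM ≫ (yon S).map νM = πQ → fM ≫ (yon S).map qM = qQ ≫ f₀ → ∀ (m₁ m₂ : M ⟶ N),
      m₁ ≫ ν₀ = νM ≫ d → m₂ ≫ ν₀ = νM ≫ d →
      fM ≫ (yon S).map m₁ = fM ≫ (yon S).map m₂ → m₁ = m₂)
    (exσ : ∀ (ft : Pt ⟶ (yon S).obj Nt) (v : Pt ⟶ P), ft ≫ (yon S).map qt = qPt ≫ f₀ →
      ft ≫ (yon S).map νt = πt → v ≫ qP = qPt ≫ qP → v ≫ π = πt ≫ (yon S).map s →
      ∃ σ : Nt ⟶ N, σ ≫ ν₀ = νt ≫ s ∧ ft ≫ (yon S).map σ = v ≫ f₀) :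
    ∃ (X'' : Sp S) (νX : X'' ⟶ X) (fX : Y ⟶ X'') (qX : (yon S).obj N ⟶ X''),
      IsAlgSpace X'' ∧ fX ≫ νX = f ∧ AffWith Q νX ∧
        IsPullback qX ((yon S).map ν₀) νX p ∧ f₀ ≫ qX = qP ≫ fX := by
  have ht : Etale t.left := (repWith_yon_map_iff _ t).1 (repWith_of_isPullback sqR.flip hp)
  have hs : Etale s.left := (repWith_yon_map_iff _ s).1 (repWith_of_isPullback sqR hp)
  let ft : Pt ⟶ (yon S).obj Nt :=
    (sqt.map (yon S)).lift (qPt ≫ f₀) πt (by rw [Category.assoc, hfac, sqPt.w])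
  have hft₁ : ft ≫ (yon S).map qt = qPt ≫ f₀ := (sqt.map (yon S)).lift_fst _ _ _
  have hft₂ : ft ≫ (yon S).map νt = πt := (sqt.map (yon S)).lift_snd _ _ _
  let v : Pt ⟶ P := sqP.lift (qPt ≫ qP) (πt ≫ (yon S).map s) (by
    rw [Category.assoc, Category.assoc, sqP.w, ← sqR.w, ← Category.assoc, ← Category.assoc, sqPt.w])
  have hv₁ : v ≫ qP = qPt ≫ qP := sqP.lift_fst _ _ _
  have hv₂ : v ≫ π = πt ≫ (yon S).map s := sqP.lift_snd _ _ _
  obtain ⟨σ, hσν, hσ₁⟩ := exσ ft v hft₁ hft₂ hv₁ hv₂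
  have hinj : ∀ (T : Over S) (r r' : T ⟶ Nt), r ≫ qt = r' ≫ qt → r ≫ σ = r' ≫ σ → r = r' := by
    intro T r r' h₁ h₂
    refine sqt.hom_ext h₁ ((yon S).map_injective (sqR.hom_ext ?_ ?_))
    · rw [← Functor.map_comp, ← Functor.map_comp, Category.assoc, Category.assoc, ← sqt.w,
        reassoc_of% h₁]
    · rw [← Functor.map_comp, ← Functor.map_comp, Category.assoc, Category.assoc, ← hσν,
        reassoc_of% h₂]
  -- reflexivity
  obtain ⟨e, he⟩ := (yon S).map_surjective (sqR.lift (𝟙 _) (𝟙 _) rfl)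
  have het : e ≫ t = 𝟙 U := (yon S).map_injective (by
    rw [Functor.map_comp, he, sqR.lift_fst, CategoryTheory.Functor.map_id])
  have hes : e ≫ s = 𝟙 U := (yon S).map_injective (by
    rw [Functor.map_comp, he, sqR.lift_snd, CategoryTheory.Functor.map_id])
  let ε : N ⟶ Nt := sqt.lift (𝟙 N) (ν₀ ≫ e) (by
    rw [Category.id_comp, Category.assoc, het, Category.comp_id])
  have hε : ε ≫ σ = 𝟙 N := by
    refine uniq (𝟙 U) (𝟙 U) (inferInstanceAs (Etale (𝟙 U.left))) (𝟙 P) π
      (by rw [CategoryTheory.Functor.map_id]; exact IsPullback.of_id_fst) (𝟙 N) ν₀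
      IsPullback.of_id_fst f₀ hfac (by simp) _ _ ?_ (by simp) ?_
    · rw [Category.assoc, hσν, sqt.lift_snd_assoc, Category.assoc, hes]
    · let w : P ⟶ Pt := sqPt.lift (𝟙 P) (π ≫ (yon S).map e) (by
        rw [Category.id_comp, Category.assoc, ← Functor.map_comp, het,
          CategoryTheory.Functor.map_id, Category.comp_id])
      have hw : f₀ ≫ (yon S).map ε = w ≫ ft := by
        apply (sqt.map (yon S)).hom_ext
        · rw [Category.assoc, ← Functor.map_comp, sqt.lift_fst, Category.assoc, hft₁,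
            sqPt.lift_fst_assoc, CategoryTheory.Functor.map_id, Category.comp_id, Category.id_comp]
        · rw [Category.assoc, ← Functor.map_comp, sqt.lift_snd, Category.assoc, hft₂,
            sqPt.lift_snd, Functor.map_comp, reassoc_of% hfac]
      have hwv : w ≫ v = 𝟙 P := by
        apply sqP.hom_ext
        · rw [Category.assoc, hv₁, sqPt.lift_fst_assoc]
        · rw [Category.assoc, hv₂, sqPt.lift_snd_assoc, Category.assoc, ← Functor.map_comp, hes,
            CategoryTheory.Functor.map_id, Category.comp_id, Category.id_comp]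
      rw [Functor.map_comp, reassoc_of% hw, hσ₁, reassoc_of% hwv, CategoryTheory.Functor.map_id,
        Category.comp_id]
  -- symmetry
  obtain ⟨sw, hsw⟩ := (yon S).map_surjective (sqR.lift ((yon S).map s) ((yon S).map t) sqR.w.symm)
  have hswt : sw ≫ t = s := (yon S).map_injective (by rw [Functor.map_comp, hsw, sqR.lift_fst])
  have hsws : sw ≫ s = t := (yon S).map_injective (by rw [Functor.map_comp, hsw, sqR.lift_snd])
  let τ : Nt ⟶ Nt := sqt.lift σ (νt ≫ sw) (by rw [Category.assoc, hswt, hσν])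
  have hτ : τ ≫ σ = qt := by
    refine uniq t t ht qPt πt sqPt qt νt sqt ft hft₂ hft₁ _ _ ?_ sqt.w ?_
    · rw [Category.assoc, hσν, sqt.lift_snd_assoc, Category.assoc, hsws]
    · let w : Pt ⟶ Pt := sqPt.lift v (πt ≫ (yon S).map sw) (by
        rw [hv₂, Category.assoc, ← Functor.map_comp, hswt])
      have hw : ft ≫ (yon S).map τ = w ≫ ft := by
        apply (sqt.map (yon S)).hom_ext
        · rw [Category.assoc, ← Functor.map_comp, sqt.lift_fst, Category.assoc, hft₁, hσ₁,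
            sqPt.lift_fst_assoc]
        · rw [Category.assoc, ← Functor.map_comp, sqt.lift_snd, Category.assoc, hft₂,
            sqPt.lift_snd, Functor.map_comp, reassoc_of% hft₂]
      have hwv : w ≫ v = qPt := by
        apply sqP.hom_ext
        · rw [Category.assoc, hv₁, sqPt.lift_fst_assoc, hv₁]
        · rw [Category.assoc, hv₂, sqPt.lift_snd_assoc, Category.assoc, ← Functor.map_comp, hsws,
            sqPt.w]
      rw [Functor.map_comp, reassoc_of% hw, hσ₁, reassoc_of% hwv, hft₁]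
  have heqv : IsEqvRel σ qt := by
    refine ⟨hinj, fun T => ⟨fun a => ⟨a ≫ ε, ?_, ?_⟩, ?_, ?_⟩⟩
    · rw [Category.assoc, sqt.lift_fst, Category.comp_id]
    · rw [Category.assoc, hε, Category.comp_id]
    · rintro a b ⟨r, rfl, rfl⟩
      exact ⟨r ≫ τ, by rw [Category.assoc, sqt.lift_fst], by rw [Category.assoc, hτ]⟩
    · rintro a b d ⟨r₁, rfl, rfl⟩ ⟨r₂, hr, rfl⟩
      obtain ⟨R₂, pr₁, pr₂, sqR₂⟩ : ∃ (R₂ : Over S) (pr₁ : R₂ ⟶ R) (pr₂ : R₂ ⟶ R),
          IsPullback pr₁ pr₂ s t := ⟨_, _, _, IsPullback.of_hasPullback _ _⟩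
      have hc : Etale (pr₁ ≫ t).left := by
        have : Etale pr₁.left := MorphismProperty.of_isPullback (isPullback_left sqR₂).flip ht
        exact inferInstanceAs (Etale (pr₁.left ≫ t.left))
      obtain ⟨d₁₃, hd⟩ := (yon S).map_surjective
        (sqR.lift ((yon S).map (pr₁ ≫ t)) ((yon S).map (pr₂ ≫ s)) (by
          rw [Functor.map_comp, Functor.map_comp, Category.assoc, Category.assoc, sqR.w,
            ← Category.assoc, ← Functor.map_comp, sqR₂.w, Functor.map_comp, Category.assoc,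
            ← sqR.w]))
      have hdt : d₁₃ ≫ t = pr₁ ≫ t := (yon S).map_injective (by
        rw [Functor.map_comp, hd, sqR.lift_fst])
      have hds : d₁₃ ≫ s = pr₂ ≫ s := (yon S).map_injective (by
        rw [Functor.map_comp, hd, sqR.lift_snd])
      obtain ⟨N₂, q₂, ν₂, sqN₂⟩ : ∃ (N₂ : Over S) (q₂ : N₂ ⟶ N) (ν₂ : N₂ ⟶ R₂),
          IsPullback q₂ ν₂ ν₀ (pr₁ ≫ t) := ⟨_, _, _, IsPullback.of_hasPullback _ _⟩
      obtain ⟨P₂, qP₂, π₂, sqP₂⟩ : ∃ (P₂ : Sp S) (qP₂ : P₂ ⟶ P) (π₂ : P₂ ⟶ (yon S).obj R₂),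
          IsPullback qP₂ π₂ π ((yon S).map (pr₁ ≫ t)) := ⟨_, _, _, IsPullback.of_hasPullback _ _⟩
      let f₂ : P₂ ⟶ (yon S).obj N₂ :=
        (sqN₂.map (yon S)).lift (qP₂ ≫ f₀) π₂ (by rw [Category.assoc, hfac, sqP₂.w])
      have hf₂₁ : f₂ ≫ (yon S).map q₂ = qP₂ ≫ f₀ := (sqN₂.map (yon S)).lift_fst _ _ _
      have hf₂₂ : f₂ ≫ (yon S).map ν₂ = π₂ := (sqN₂.map (yon S)).lift_snd _ _ _
      let φ₁ : N₂ ⟶ Nt := sqt.lift q₂ (ν₂ ≫ pr₁) (by rw [Category.assoc, sqN₂.w])
      let φ₂ : N₂ ⟶ Nt := sqt.lift (φ₁ ≫ σ) (ν₂ ≫ pr₂) (by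
        rw [Category.assoc, hσν, sqt.lift_snd_assoc, Category.assoc, Category.assoc, sqR₂.w])
      let φ₃ : N₂ ⟶ Nt := sqt.lift q₂ (ν₂ ≫ d₁₃) (by rw [Category.assoc, hdt, sqN₂.w])
      let a₁ : P₂ ⟶ Pt := sqPt.lift qP₂ (π₂ ≫ (yon S).map pr₁) (by
        rw [sqP₂.w, Functor.map_comp, Category.assoc])
      let a₂ : P₂ ⟶ Pt := sqPt.lift (a₁ ≫ v) (π₂ ≫ (yon S).map pr₂) (by
        rw [Category.assoc, hv₂, sqPt.lift_snd_assoc, Category.assoc, Category.assoc,
          ← Functor.map_comp, ← Functor.map_comp, sqR₂.w])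
      let a₃ : P₂ ⟶ Pt := sqPt.lift qP₂ (π₂ ≫ (yon S).map d₁₃) (by
        rw [sqP₂.w, Category.assoc, ← Functor.map_comp, hdt])
      have h₁ : f₂ ≫ (yon S).map φ₁ = a₁ ≫ ft := by
        apply (sqt.map (yon S)).hom_ext
        · rw [Category.assoc, ← Functor.map_comp, sqt.lift_fst, Category.assoc, hft₁,
            sqPt.lift_fst_assoc, hf₂₁]
        · rw [Category.assoc, ← Functor.map_comp, sqt.lift_snd, Category.assoc, hft₂,
            sqPt.lift_snd, Functor.map_comp, reassoc_of% hf₂₂]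
      have h₂ : f₂ ≫ (yon S).map φ₂ = a₂ ≫ ft := by
        apply (sqt.map (yon S)).hom_ext
        · rw [Category.assoc, ← Functor.map_comp, sqt.lift_fst, Category.assoc, hft₁,
            sqPt.lift_fst_assoc, Functor.map_comp, reassoc_of% h₁, hσ₁, Category.assoc]
        · rw [Category.assoc, ← Functor.map_comp, sqt.lift_snd, Category.assoc, hft₂,
            sqPt.lift_snd, Functor.map_comp, reassoc_of% hf₂₂]
      have h₃ : f₂ ≫ (yon S).map φ₃ = a₃ ≫ ft := by
        apply (sqt.map (yon S)).hom_ext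
        · rw [Category.assoc, ← Functor.map_comp, sqt.lift_fst, Category.assoc, hft₁,
            sqPt.lift_fst_assoc, hf₂₁]
        · rw [Category.assoc, ← Functor.map_comp, sqt.lift_snd, Category.assoc, hft₂,
            sqPt.lift_snd, Functor.map_comp, reassoc_of% hf₂₂]
      have ha : a₂ ≫ v = a₃ ≫ v := by
        apply sqP.hom_ext
        · rw [Category.assoc, Category.assoc, hv₁, sqPt.lift_fst_assoc, sqPt.lift_fst_assoc,
            Category.assoc, hv₁, sqPt.lift_fst_assoc]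
        · rw [Category.assoc, Category.assoc, hv₂, sqPt.lift_snd_assoc, sqPt.lift_snd_assoc,
            Category.assoc, Category.assoc, ← Functor.map_comp, ← Functor.map_comp, hds]
      have hφ : φ₃ ≫ σ = φ₂ ≫ σ := by
        refine uniq (pr₁ ≫ t) (pr₂ ≫ s) hc qP₂ π₂ sqP₂ q₂ ν₂ sqN₂ f₂ hf₂₂ hf₂₁ _ _ ?_ ?_ ?_
        · rw [Category.assoc, hσν, sqt.lift_snd_assoc, Category.assoc, hds]
        · rw [Category.assoc, hσν, sqt.lift_snd_assoc, Category.assoc]
        · rw [Functor.map_comp, Functor.map_comp, reassoc_of% h₃, reassoc_of% h₂, hσ₁,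
            reassoc_of% ha]
      have w₁ : (r₁ ≫ νt) ≫ s = (r₂ ≫ νt) ≫ t := by
        rw [Category.assoc, Category.assoc, ← sqt.w, reassoc_of% hr, hσν]
      let r := sqN₂.lift (r₁ ≫ qt) (sqR₂.lift (r₁ ≫ νt) (r₂ ≫ νt) w₁) (by
        rw [Category.assoc, sqt.w, sqR₂.lift_fst_assoc, Category.assoc])
      have hr₁ : r ≫ φ₁ = r₁ := sqt.hom_ext
        (by rw [Category.assoc, sqt.lift_fst, sqN₂.lift_fst])
        (by rw [Category.assoc, sqt.lift_snd, sqN₂.lift_snd_assoc, sqR₂.lift_fst])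
      have hr₂ : r ≫ φ₂ = r₂ := sqt.hom_ext
        (by rw [Category.assoc, sqt.lift_fst, reassoc_of% hr₁, hr])
        (by rw [Category.assoc, sqt.lift_snd, sqN₂.lift_snd_assoc, sqR₂.lift_snd])
      exact ⟨r ≫ φ₃, by rw [Category.assoc, sqt.lift_fst, sqN₂.lift_fst],
        by rw [Category.assoc, hφ, reassoc_of% hr₂]⟩
  -- the quotient
  have sqQ := isPullback_yonQuot heqv
  have hqs := isLocallySurjective_yonQuotπ σ qt
  have hwQ := yonQuot_w σ qt
  let qX := yonQuotπ σ qt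
  have hw0 : (yon S).map qt ≫ (yon S).map ν₀ ≫ p = (yon S).map σ ≫ (yon S).map ν₀ ≫ p := by
    rw [← Category.assoc, ← Category.assoc, ← Functor.map_comp, ← Functor.map_comp, sqt.w, hσν,
      Functor.map_comp, Functor.map_comp, Category.assoc, Category.assoc, sqR.w]
  obtain ⟨νX, hqν⟩ : ∃ νX : QuotSh.quot Scheme.fppfPrecoverage σ qt ⟶ X,
      qX ≫ νX = (yon S).map ν₀ ≫ p :=
    ⟨_, (Cofork.IsColimit.existsUnique (isColimitYonQuot σ qt) _ hw0).exists.choose_spec⟩
  obtain ⟨l, hl₁, hl₂⟩ : ∃ l : (yon S).obj N ⟶ pullback νX p,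
      l ≫ pullback.fst νX p = qX ∧ l ≫ pullback.snd νX p = (yon S).map ν₀ :=
    ⟨pullback.lift qX _ hqν, pullback.lift_fst _ _ _, pullback.lift_snd _ _ _⟩
  have : Mono l := ⟨fun {Z} a b hab => Groth.AlgSp2.hom_ext_yon fun T z => by
    have e₁ : (z ≫ a) ≫ qX = (z ≫ b) ≫ qX := by
      have := hab =≫ pullback.fst νX p
      rw [Category.assoc, Category.assoc, hl₁] at this
      rw [Category.assoc, Category.assoc, this]
    have e₂ : (z ≫ a) ≫ (yon S).map ν₀ = (z ≫ b) ≫ (yon S).map ν₀ := by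
      have := hab =≫ pullback.snd νX p
      rw [Category.assoc, Category.assoc, hl₂] at this
      rw [Category.assoc, Category.assoc, this]
    obtain ⟨x, hx⟩ := (yon S).map_surjective (sqQ.lift (z ≫ a) (z ≫ b) e₁)
    have h₁ : (yon S).map (x ≫ qt) = z ≫ a := by rw [Functor.map_comp, hx, sqQ.lift_fst]
    have h₂ : (yon S).map (x ≫ σ) = z ≫ b := by rw [Functor.map_comp, hx, sqQ.lift_snd]
    have hxν : x ≫ νt = (x ≫ qt) ≫ ν₀ ≫ e := (yon S).map_injective (sqR.hom_ext (by
        rw [← Functor.map_comp, ← Functor.map_comp]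
        congr 1
        simp only [Category.assoc, het, Category.comp_id, sqt.w]) (by
        have : x ≫ σ ≫ ν₀ = x ≫ qt ≫ ν₀ := (yon S).map_injective (by
          rw [← Category.assoc, ← Category.assoc, Functor.map_comp, h₂, ← e₂, ← h₁,
            ← Functor.map_comp])
        rw [← Functor.map_comp, ← Functor.map_comp]
        congr 1
        simp only [Category.assoc, hes, Category.comp_id, ← hσν, this]))
    have hxε : x = (x ≫ qt) ≫ ε := sqt.hom_ext
      (by rw [Category.assoc (x ≫ qt), sqt.lift_fst, Category.comp_id])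
      (by rw [Category.assoc (x ≫ qt), sqt.lift_snd, hxν])
    rw [← h₁, ← h₂]
    conv_rhs => rw [hxε, Category.assoc, hε, Category.comp_id]⟩
  have : Sheaf.IsLocallySurjective qX := hqs
  have : Epi l := by
    have sqG := IsPullback.of_hasPullback qX (pullback.fst νX p)
    have := isLocallySurjective_of_isPullback sqG
    let n := pullback.fst qX (pullback.fst νX p)
    let z := pullback.snd qX (pullback.fst νX p)
    have hz : n ≫ qX = z ≫ pullback.fst νX p := sqG.w
    let r := sqR.lift (n ≫ (yon S).map ν₀) (z ≫ pullback.snd νX p) (by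
      rw [Category.assoc, Category.assoc, ← hqν, reassoc_of% hz, pullback.condition])
    let a := (sqt.map (yon S)).lift n r (sqR.lift_fst _ _ _).symm
    have ha : a ≫ (yon S).map σ ≫ l = z := by
      apply pullback.hom_ext
      · rw [Category.assoc, Category.assoc, hl₁,
          show (yon S).map σ ≫ qX = (yon S).map qt ≫ qX from hwQ.symm, ← Category.assoc,
          (sqt.map (yon S)).lift_fst, hz]
      · rw [Category.assoc, Category.assoc, hl₂, ← Functor.map_comp, hσν,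
          Functor.map_comp, ← Category.assoc, (sqt.map (yon S)).lift_snd, sqR.lift_snd]
    have : Epi z := inferInstance
    exact epi_of_epi_fac (f := a ≫ (yon S).map σ) (h := z) (by rw [Category.assoc]; exact ha)
  have : IsIso l := isIso_of_mono_of_epi l
  have sqX : IsPullback qX ((yon S).map ν₀) νX p :=
    IsPullback.of_iso_pullback ⟨hqν⟩ (asIso l) hl₁ hl₂
  have hX'' : IsAlgSpace (QuotSh.quot Scheme.fppfPrecoverage σ qt) :=
    isAlgSpace_of_chart (π := qX) (repWith_of_isPullback sqX.flip hp)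
      (repWith_of_isPullback sqX.flip hps)
  have := isLocallySurjective_of_etale p hp hps
  have := isLocallySurjective_of_isPullback sqP.flip
  have sqY := IsPullback.of_hasPullback qP qP
  obtain ⟨hcY⟩ := isColimit_of_isLocallySurjective sqY
  have key : pullback.fst qP qP ≫ f₀ ≫ qX = pullback.snd qP qP ≫ f₀ ≫ qX := by
    let r := sqR.lift (pullback.fst qP qP ≫ π) (pullback.snd qP qP ≫ π) (by
      rw [Category.assoc, Category.assoc, ← sqP.w, pullback.condition_assoc])
    let a := sqPt.lift (pullback.fst qP qP) r (sqR.lift_fst _ _ _).symm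
    have ha : a ≫ v = pullback.snd qP qP := by
      apply sqP.hom_ext
      · rw [Category.assoc, hv₁, sqPt.lift_fst_assoc, pullback.condition]
      · rw [Category.assoc, hv₂, sqPt.lift_snd_assoc, sqR.lift_snd]
    calc _ = (a ≫ qPt) ≫ f₀ ≫ qX := by rw [sqPt.lift_fst]
      _ = a ≫ ft ≫ (yon S).map qt ≫ qX := by simp only [Category.assoc, reassoc_of% hft₁]
      _ = a ≫ ft ≫ (yon S).map σ ≫ qX := by rw [show (yon S).map qt ≫ qX = _ from hwQ]
      _ = (a ≫ v) ≫ f₀ ≫ qX := by simp only [Category.assoc, reassoc_of% hσ₁]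
      _ = _ := by rw [ha]
  obtain ⟨fX, hfX, -⟩ := Cofork.IsColimit.existsUnique hcY (f₀ ≫ qX) key
  have hfX' : qP ≫ fX = f₀ ≫ qX := hfX
  refine ⟨_, νX, fX, qX, hX'', ?_, ?_, sqX, hfX'.symm⟩
  · rw [← cancel_epi qP, reassoc_of% hfX', hqν, reassoc_of% hfac, sqP.w]
  · exact affWith_of_cover hX hp hps sqX hN

end

end Groth.AlgSp2.QcAffine
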