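import Groth.Agent.AlgSp2.QcAffine.Stable
import Groth.Agent.AlgSp2.QcAffine.Model
import Groth.Agent.AlgSp2.QcAffine.Quotient
import Groth.Agent.AlgSpBasic.ImmersionDescent
import Groth.Agent.AlgSpBasic.QComp
import Groth.Agent.AlgSp2.AffineRows
import Mathlib.RingTheory.IntegralClosure.IsIntegralClosure.Basic

/-!
# A finite model agreeing with an integral morphism over a finite type quasi-compact open
-/

set_option autoImplicit false
set_option backward.isDefEq.respectTransparency.types false
universe u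

open CategoryTheory CategoryTheory.Limits AlgebraicGeometry Opposite AlgSp TopologicalSpace

namespace Groth.AlgSp2.QcAffine

noncomputable section

/-- A finitely generated localisation comes from finitely many elements. -/
theorem exists_finset_pow_mul_mem {A B L : Type u} [CommRing A] [CommRing B] [CommRing L]
    [Algebra A B] [Algebra B L] [Algebra A L] [IsScalarTower A B L] (b : B)
    [IsLocalization.Away b L] [Algebra.FiniteType A L] :
    ∃ F : Finset B, ∀ B₀ : Subalgebra A B, b ∈ B₀ → (↑F : Set B) ⊆ B₀ →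
      ∀ x : B, ∃ n : ℕ, b ^ n * x ∈ B₀ := by
  classical
  obtain ⟨s, hs⟩ := Algebra.FiniteType.out (R := A) (A := L)
  choose n g hg using fun z : L => IsLocalization.Away.surj b z
  refine ⟨s.image g, fun B₀ hb hF x => ?_⟩
  let C : Subalgebra A L :=
    { carrier := {z | ∃ (k : ℕ) (y : B), y ∈ B₀ ∧ z * algebraMap B L b ^ k = algebraMap B L y}
      mul_mem' := by
        rintro z z' ⟨k, y, hy, e⟩ ⟨k', y', hy', e'⟩
        exact ⟨k + k', y * y', mul_mem hy hy', by rw [pow_add, map_mul, ← e, ← e']; ring⟩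
      add_mem' := by
        rintro z z' ⟨k, y, hy, e⟩ ⟨k', y', hy', e'⟩
        exact ⟨k + k', y * b ^ k' + y' * b ^ k,
          add_mem (mul_mem hy (pow_mem hb _)) (mul_mem hy' (pow_mem hb _)),
          by rw [map_add, map_mul, map_mul, ← e, ← e', map_pow, map_pow, pow_add]; ring⟩
      algebraMap_mem' := fun a => ⟨0, algebraMap A B a, B₀.algebraMap_mem a, by
        rw [pow_zero, mul_one, ← IsScalarTower.algebraMap_apply]⟩ }
  have hC : (⊤ : Subalgebra A L) ≤ C := by
    rw [← hs]
    exact Algebra.adjoin_le fun z hz => ⟨n z, g z, hF (Finset.mem_image_of_mem g hz), hg z⟩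
  obtain ⟨k, y, hy, e⟩ := hC (Algebra.mem_top (x := algebraMap B L x))
  rw [← map_pow, ← map_mul] at e
  obtain ⟨⟨_, m, rfl⟩, hm⟩ := (IsLocalization.eq_iff_exists (Submonoid.powers b) L).1 e
  refine ⟨m + k, ?_⟩
  rw [pow_add, show b ^ m * b ^ k * x = b ^ m * (x * b ^ k) by ring]
  exact (show b ^ m * (x * b ^ k) = b ^ m * y from hm) ▸ mul_mem (pow_mem hb _) hy

/-- A compact open of an affine scheme is a finite union of basic opens. -/
theorem exists_basicOpens {T : Scheme.{u}} [IsAffine T] (W : T.Opens) (hW : IsCompact (W : Set T)) :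
    ∃ (n : ℕ) (b : Fin n → Γ(T, ⊤)), W = ⨆ i, T.basicOpen (b i) := by
  choose b hb hxb using fun x : W =>
    (isAffineOpen_top T).exists_basicOpen_le (V := W) ⟨x.1, x.2⟩ (show x.1 ∈ (⊤ : T.Opens) from trivial)
  obtain ⟨t, ht⟩ := hW.elim_finite_subcover (fun x : W => (T.basicOpen (b x) : Set T))
    (fun x => (T.basicOpen (b x)).isOpen) fun x hx => Set.mem_iUnion.2 ⟨⟨x, hx⟩, hxb _⟩
  refine ⟨t.card, fun i => b (t.equivFin.symm i).1, le_antisymm (fun x hx => ?_) (iSup_le fun i => hb _)⟩
  obtain ⟨k, hk, hx'⟩ := Set.mem_iUnion₂.1 (ht hx)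
  refine TopologicalSpace.Opens.mem_iSup.2 ⟨t.equivFin ⟨k, hk⟩, ?_⟩
  simp only [Equiv.symm_apply_apply]
  exact hx'

/-- Morphisms to affine schemes out of a flat base change of a morphism injective on functions are
determined by their composites. -/
theorem hom_ext_of_flat {N T M P' Z : Scheme.{u}} [IsAffine N] [IsAffine T] [IsAffine Z] {f : N ⟶ T}
    (hf : Function.Injective f.appTop) {qM : M ⟶ T} [Flat qM] {qP : P' ⟶ N} {fM : P' ⟶ M}
    (sq : IsPullback qP fM f qM) {m₁ m₂ : M ⟶ Z} (e : fM ≫ m₁ = fM ≫ m₂) : m₁ = m₂ := by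
  refine M.affineCover.hom_ext _ _ fun i => ?_
  let w := M.affineCover.f i
  have sq' := (IsPullback.of_hasPullback fM w).paste_horiz sq
  have : IsAffine (M.affineCover.X i) := inferInstance
  have hinj := injective_appTop_of_isPullback sq' hf
  apply ext_of_isAffine
  ext a
  apply hinj
  have := congrArg (fun g => g.appTop a)
    (show pullback.snd fM w ≫ w ≫ m₁ = pullback.snd fM w ≫ w ≫ m₂ by
      rw [← pullback.condition_assoc, ← pullback.condition_assoc, e])
  rw [Scheme.Hom.comp_appTop, Scheme.Hom.comp_appTop (pullback.snd fM w)] at this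
  exact this

variable {S : Scheme.{u}}

open Groth.AlgSpBasic

/-- A finite model of an integral morphism agreeing with it over a quasi-compact open of finite type. -/
theorem exists_finite_model [QuasiSeparatedSpace ↥S] {X Y N : Sp S} (hX : IsAlgSpace X)
    (hY : IsAlgSpace Y) (hN : IsAlgSpace N) (hqcY : IsQuasiCompactSp Y)
    (hqsY : IsQuasiSeparatedSp Y) (j : X ⟶ N) (ν : N ⟶ Y) (hjo : RepWith @IsOpenImmersion j)
    (hjq : IsQuasiCompactMor j) (hν : IsIntegralMor ν)
    (hft : RepWith @LocallyOfFiniteType (j ≫ ν)) :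
    ∃ (T : Sp S) (π : T ⟶ Y) (h : N ⟶ T), IsAlgSpace T ∧ h ≫ π = ν ∧ IsFiniteMor π ∧
      RepWith @IsOpenImmersion (j ≫ h) ∧ IsQuasiCompactMor (j ≫ h) := by
  classical
  obtain ⟨CU, hae, has⟩ : ∃ CU : Chart Y, RepWith @Etale CU.b ∧ RepWith @Surjective CU.b := by
    obtain ⟨U, a, hU, hae, has⟩ := exists_affine_chart hY hqcY
    exact ⟨⟨U, hU, a⟩, hae, has⟩
  have haq := repWith_quasiCompact_of_qs hY hqsY CU.b
  obtain ⟨deg, hdeg⟩ := exists_degFibresLE_of_qs hY hqsY hae
  have hνI := (Groth.AlgSp2.isIntegralMor_iff hN hY).1 hν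
  have hν' : IsAffineMor ν := affWith_isAffineHom_iff.1
    (affWith_mono (Q := @IsIntegralHom) (Q' := @IsAffineHom) (fun _ _ k (_ : IsIntegralHom k) => inferInstance) (affWith_isIntegralHom_iff.2 hν))
  let NU : Over S := tot hν' CU
  let p : NU ⟶ CU.Z := proj hν' CU
  have : IsIntegralHom p.left := (AlgSp.repWith_yon_map_iff _ p).1 (repWith_of_isPullback (isPullback_tot hν' CU) hνI)
  -- the open subscheme
  obtain ⟨XU, xi, xf, sqX⟩ : ∃ (XU : Over S) (xi : XU ⟶ NU) (xf : (yon S).obj XU ⟶ X),
      IsPullback xf ((yon S).map xi) j (toN hν' CU) := by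
    obtain ⟨XU, b, i, sq⟩ := hjo.rep (toN hν' CU)
    exact ⟨XU, b, i, sq⟩
  have : IsOpenImmersion xi.left := hjo.property _ _ _ sqX
  have : QuasiCompact xi.left := (repWith_of_isQuasiCompactMor hjo.rep hjq).property _ _ _ sqX
  have : CompactSpace ↥XU.left := QuasiCompact.compactSpace_of_compactSpace xi.left
  have sqXY : IsPullback xf ((yon S).map (xi ≫ p)) (j ≫ ν) CU.b := by
    rw [Functor.map_comp]
    exact sqX.paste_vert (isPullback_tot hν' CU)
  have : LocallyOfFiniteType (xi ≫ p).left := hft.property _ _ _ sqXY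
  let W₀ : NU.left.Opens := xi.left.opensRange
  obtain ⟨nb, b, hb⟩ := exists_basicOpens W₀
    (by rw [Scheme.Hom.coe_opensRange]; exact isCompact_range xi.left.continuous)
  -- the generators
  have hF : ∀ i, ∃ F : Finset (sections hν' CU), ∀ B₀ : Subalgebra (fns CU) (sections hν' CU),
      b i ∈ B₀ → (↑F : Set (sections hν' CU)) ⊆ B₀ → ∀ x, ∃ n : ℕ, b i ^ n * x ∈ B₀ := by
    intro i
    let D := NU.left.basicOpen (b i)
    have hle : D ≤ W₀ := hb ▸ le_iSup (fun i => NU.left.basicOpen (b i)) i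
    have : IsAffine D.toScheme := (isAffineOpen_top _).basicOpen (b i)
    have hr : Set.range D.ι ⊆ Set.range xi.left := by
      rw [Scheme.Opens.range_ι, ← Scheme.Hom.coe_opensRange]
      exact hle
    have : IsOpenImmersion (IsOpenImmersion.lift xi.left D.ι hr ≫ xi.left) := by
      rw [IsOpenImmersion.lift_fac]; infer_instance
    have : IsOpenImmersion (IsOpenImmersion.lift xi.left D.ι hr) :=
      IsOpenImmersion.of_comp _ xi.left
    have hl : LocallyOfFiniteType (D.ι ≫ p.left) := by
      rw [← IsOpenImmersion.lift_fac xi.left D.ι hr, Category.assoc, ← Over.comp_left]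
      infer_instance
    have hg := HasRingHomProperty.appTop (P := @LocallyOfFiniteType) (D.ι ≫ p.left) hl
    let _ : Algebra (sections hν' CU) Γ(NU.left, D) :=
      (NU.left.presheaf.map (homOfLE (le_top : D ≤ ⊤)).op).hom.toAlgebra
    let _ : Algebra (fns CU) Γ(NU.left, D) :=
      ((algebraMap (sections hν' CU) Γ(NU.left, D)).comp
        (algebraMap (fns CU) (sections hν' CU))).toAlgebra
    have : IsScalarTower (fns CU) (sections hν' CU) Γ(NU.left, D) :=
      IsScalarTower.of_algebraMap_eq fun _ => rfl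
    have : IsLocalization.Away (b i) Γ(NU.left, D) :=
      (isAffineOpen_top NU.left).isLocalization_basicOpen (b i)
    have : Algebra.FiniteType (fns CU) Γ(NU.left, D) := by
      have e : (algebraMap (fns CU) Γ(NU.left, D)) =
          D.topIso.hom.hom.comp (D.ι ≫ p.left).appTop.hom := by
        ext x
        show NU.left.presheaf.map _ (p.left.appTop x) = D.topIso.hom ((D.ι ≫ p.left).appTop x)
        rw [Scheme.Hom.comp_appTop, Scheme.Opens.topIso_hom]
        show _ = NU.left.presheaf.map _ (D.ι.appTop (p.left.appTop x))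
        rw [Scheme.Opens.ι_appTop]
        exact ConcreteCategory.congr_hom (NU.left.presheaf.map_comp _ _) (p.left.appTop x)
      rw [← RingHom.finiteType_algebraMap, e]
      exact (RingHom.FiniteType.of_surjective _
        (ConcreteCategory.bijective_of_isIso D.topIso.hom).2).comp hg
    exact exists_finset_pow_mul_mem (L := Γ(NU.left, D)) (b i)
  choose F hF using hF
  obtain ⟨G, hGfg, hle, hst⟩ := exists_stable hν' CU hY hae (surjective_ofPt_of_repWith has) haq hdeg
    (Submodule.span (fns CU)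
      ((Set.range b) ∪ ⋃ i, (↑(F i) : Set (sections hν' CU))))
    (Submodule.fg_span ((Set.finite_range b).union
      (Set.finite_iUnion fun i => (F i).finite_toSet)))
  let B₀ : Subalgebra (fns CU) (sections hν' CU) := Algebra.adjoin (fns CU) (G : Set _)
  have hGB : (G : Set (sections hν' CU)) ⊆ B₀ := Algebra.subset_adjoin
  have hbB : ∀ i, b i ∈ B₀ := fun i =>
    hGB (hle (Submodule.subset_span (Or.inl (Set.mem_range_self i))))
  have hpow : ∀ i x, ∃ n : ℕ, b i ^ n * x ∈ B₀ := fun i => hF i B₀ (hbB i) fun x hx =>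
    hGB (hle (Submodule.subset_span (Or.inr (Set.mem_iUnion.2 ⟨i, hx⟩))))
  have hfin : Module.Finite (fns CU) B₀ := by
    obtain ⟨s, hs⟩ := hGfg
    have hB : B₀ = Algebra.adjoin (fns CU) (↑s : Set (sections hν' CU)) := by
      refine le_antisymm (Algebra.adjoin_le ?_) (Algebra.adjoin_mono ?_)
      · rw [← hs]
        exact Algebra.span_le_adjoin _ _
      · rw [← hs]
        exact Submodule.subset_span
    have hint : ∀ x : sections hν' CU, IsIntegral (fns CU) x := fun x =>
      (HasAffineProperty.iff_of_isAffine (P := @IsIntegralHom)).1 ‹IsIntegralHom p.left› |>.2 x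
    have : (Subalgebra.toSubmodule B₀).FG := by
      rw [hB]
      exact fg_adjoin_of_finite s.finite_toSet fun x _ => hint x
    exact Module.Finite.iff_fg.2 this
  -- the model on the chart
  let T₀ : Over S := Over.mk (Spec.map (CommRingCat.ofHom (algebraMap (fns CU) B₀)) ≫
    CU.Z.left.isoSpec.inv ≫ CU.Z.hom)
  let ν₀ : T₀ ⟶ CU.Z := Over.homMk (Spec.map (CommRingCat.ofHom (algebraMap (fns CU) B₀)) ≫
    CU.Z.left.isoSpec.inv) (by simp [T₀])
  have : IsAffine T₀.left := inferInstanceAs (IsAffine (Spec _))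
  have hν₀ : IsFinite ν₀.left := by
    have : IsFinite (Spec.map (CommRingCat.ofHom (algebraMap (fns CU) B₀))) :=
      (IsFinite.SpecMap_iff _).2 (RingHom.finite_algebraMap.2 hfin)
    exact inferInstanceAs (IsFinite (_ ≫ _))
  let incl : CommRingCat.of B₀ ⟶ Γ(NU.left, ⊤) := CommRingCat.ofHom B₀.val.toRingHom
  let f₀ : NU ⟶ T₀ := Over.homMk (NU.left.isoSpec.hom ≫ Spec.map incl) (by
    show _ ≫ Spec.map _ ≫ CU.Z.left.isoSpec.inv ≫ CU.Z.hom = NU.hom
    rw [Category.assoc, ← Spec.map_comp_assoc,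
      show CommRingCat.ofHom (algebraMap (fns CU) B₀) ≫ incl = p.left.appTop from rfl,
      Scheme.isoSpec_inv_naturality_assoc, Iso.hom_inv_id_assoc, Over.w p])
  have hfac : f₀ ≫ ν₀ = p := Over.OverMorphism.ext (by
    show (_ ≫ Spec.map _) ≫ Spec.map _ ≫ CU.Z.left.isoSpec.inv = p.left
    rw [Category.assoc, ← Spec.map_comp_assoc,
      show CommRingCat.ofHom (algebraMap (fns CU) B₀) ≫ incl = p.left.appTop from rfl,
      Scheme.isoSpec_inv_naturality, Iso.hom_inv_id_assoc])
  have hf₀ : ∀ x, f₀.left.appTop x = ((Scheme.ΓSpecIso (CommRingCat.of B₀)).hom x).val := by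
    intro x
    show (NU.left.isoSpec.hom ≫ Spec.map incl).appTop x = _
    rw [Scheme.isoSpec_hom, Scheme.Hom.comp_appTop, Scheme.toSpecΓ_appTop]
    exact ConcreteCategory.congr_hom (Scheme.ΓSpecIso_naturality incl) x
  have hinj : Function.Injective f₀.left.appTop := fun x y h =>
    (ConcreteCategory.bijective_of_isIso (Scheme.ΓSpecIso (CommRingCat.of B₀)).hom).1
      (Subtype.ext ((hf₀ x).symm.trans (h.trans (hf₀ y))))
  have hsurj : ∀ x ∈ B₀, ∃ y, f₀.left.appTop y = x := fun x hx => by
    obtain ⟨y, hy⟩ := (ConcreteCategory.bijective_of_isIso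
      (Scheme.ΓSpecIso (CommRingCat.of B₀)).hom).2 ⟨x, hx⟩
    exact ⟨y, (hf₀ y).trans (congrArg Subtype.val hy)⟩
  -- the relation
  obtain ⟨R, t, s, sqR⟩ := exists_pullback_of_diag hY.diag CU.b CU.b
  have ht : Etale t.left := (repWith_yon_map_iff _ t).1 (repWith_of_isPullback sqR.flip hae)
  obtain ⟨Nt, qt, νt, sqt⟩ : ∃ (Nt : Over S) (qt : Nt ⟶ T₀) (νt : Nt ⟶ R),
      IsPullback qt νt ν₀ t := ⟨_, _, _, IsPullback.of_hasPullback _ _⟩
  obtain ⟨NR, qN, πN, sqN⟩ : ∃ (NR : Over S) (qN : NR ⟶ NU) (πN : NR ⟶ R),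
      IsPullback qN πN p t := ⟨_, _, _, IsPullback.of_hasPullback _ _⟩
  refine Exists.elim (exists_quotient_of_model (Q := @IsFinite) hY hae has
    (isPullback_tot hν' CU) (π := (yon S).map p) (ν₀ := ν₀) (f₀ := (yon S).map f₀)
    (by rw [← Functor.map_comp, hfac]) (affWith_of_repWith
      (fun _ _ k (_ : IsFinite k) => inferInstance) ((repWith_yon_map_iff _ ν₀).2 hν₀))
    sqR sqt (sqN.map (yon S)) ?_ ?_)
    fun T ⟨π, h, q, hT, hfacT, hπ, sqT, hq⟩ => ?_
  rotate_left 2
  · -- the open immersion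
    refine ⟨T, π, h, hT, hfacT, affWith_isFinite_iff.1 hπ, ?_⟩
    have sqJ : IsPullback xf ((yon S).map (xi ≫ f₀)) (j ≫ h) q := by
      refine IsPullback.of_bot ?_ ?_ sqT
      · rw [← Functor.map_comp, Category.assoc, hfac, Category.assoc, hfacT]
        exact sqXY
      · rw [Functor.map_comp, Category.assoc, hq, ← Category.assoc ((yon S).map xi), ← sqX.w,
          Category.assoc]
    have hqe : RepWith @Etale q := repWith_of_isPullback sqT.flip hae
    have hqs : RepWith @Surjective q := repWith_of_isPullback sqT.flip has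
    have hopen : IsOpenImmersion (xi ≫ f₀).left := by
      choose y hy using fun i => hsurj (b i) (hbB i)
      have : IsOpenImmersion (W₀.ι ≫ f₀.left) := isOpenImmersion_of_basicOpens f₀.left hinj y W₀
        (by simp only [hy]; exact hb) fun i x => by
          obtain ⟨n, hn⟩ := hpow i x
          obtain ⟨z, hz⟩ := hsurj _ hn
          exact ⟨n, z, by rw [hz, hy]⟩
      rw [Over.comp_left, ← Scheme.Hom.isoOpensRange_hom_ι xi.left, Category.assoc]
      infer_instance
    have ho : RepWith @IsOpenImmersion (j ≫ h) := repWith_isOpenImmersion_of_cover hX hT hqe hqs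
      sqJ ((repWith_yon_map_iff _ _).2 hopen)
    have := isLocallySurjective_of_etale q hqe hqs
    exact ⟨ho, isQuasiCompactMor_of_repWith hX hT (repWith_of_isLocallySurjective (j ≫ h) ho.rep q
      xf _ sqJ ((repWith_yon_map_iff _ _).2 (quasiCompact_of_compactSpace (xi ≫ f₀).left)))⟩
  · -- uniqueness
    intro V c d hc Q' qQ πQ sqQ M qM νM sqM fM e₁ e₂ m₁ m₂ _ _ e
    obtain ⟨P', qP', π', sqP'⟩ : ∃ (P' : Over S) (qP' : P' ⟶ NU) (π' : P' ⟶ V),
        IsPullback qP' π' p c := ⟨_, _, _, IsPullback.of_hasPullback _ _⟩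
    let l : P' ⟶ M := sqM.lift (qP' ≫ f₀) π' (by rw [Category.assoc, hfac, sqP'.w])
    have sql : IsPullback qP' l f₀ qM :=
      IsPullback.of_bot (by rw [sqM.lift_snd, hfac]; exact sqP') (sqM.lift_fst _ _ _).symm sqM
    have := hc
    have : Flat qM.left := MorphismProperty.of_isPullback (P := @Flat) (isPullback_left sqM).flip
      inferInstance
    let i := sqQ.lift ((yon S).map qP') ((yon S).map π') (by
      rw [← Functor.map_comp, ← Functor.map_comp, sqP'.w])
    have hi : i ≫ fM = (yon S).map l := (sqM.map (yon S)).hom_ext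
      (by rw [Category.assoc, e₂, ← Category.assoc, sqQ.lift_fst, ← Functor.map_comp,
        ← Functor.map_comp, sqM.lift_fst])
      (by rw [Category.assoc, e₁, sqQ.lift_snd, ← Functor.map_comp, sqM.lift_snd])
    have el : l ≫ m₁ = l ≫ m₂ := (yon S).map_injective (by
      rw [Functor.map_comp, Functor.map_comp, ← hi, Category.assoc, Category.assoc, e])
    exact Over.OverMorphism.ext (hom_ext_of_flat hinj (isPullback_left sql)
      (congrArg CommaMorphism.left el))
  · -- existence
    intro ft v hft₁ hft₂ hv₁ hv₂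
    obtain ⟨ft, rfl⟩ := (yon S).map_surjective ft
    obtain ⟨v, rfl⟩ := (yon S).map_surjective v
    replace hft₁ : ft ≫ qt = qN ≫ f₀ := (yon S).map_injective (by simpa only [Functor.map_comp] using hft₁)
    replace hft₂ : ft ≫ νt = πN := (yon S).map_injective (by simpa only [Functor.map_comp] using hft₂)
    replace hv₂ : v ≫ p = πN ≫ s := (yon S).map_injective (by simpa only [Functor.map_comp] using hv₂)
    let g : (yon S).obj R ⟶ Y := (yon S).map t ≫ CU.b
    have hloc : ∀ E : R.left.affineOpens, ∃ (σ : (νt.left ⁻¹ᵁ E.1).toScheme ⟶ T₀.left),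
        σ ≫ ν₀.left = (νt.left ⁻¹ᵁ E.1).ι ≫ νt.left ≫ s.left ∧
        ∃ (CE : Over S) (jE : CE ⟶ NR) (gE : CE.left ⟶ (νt.left ⁻¹ᵁ E.1).toScheme),
          IsOpenImmersion jE.left ∧ (∀ z, πN.left z ∈ E.1 → z ∈ Set.range jE.left) ∧
          gE ≫ (νt.left ⁻¹ᵁ E.1).ι = jE.left ≫ ft.left ∧ gE ≫ σ = jE.left ≫ v.left ≫ f₀.left := by
      rintro ⟨E, hE⟩
      let CE : Chart Y := sub g E hE
      let c₁ : CHom CE CU := subTo E hE t rfl
      let c₂ : CHom CE CU := subTo E hE s sqR.w.symm
      let M : R.left.Opens := E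
      let ME := (νt.left ⁻¹ᵁ E).toScheme
      have : IsAffine E.toScheme := hE
      have : IsFinite νt.left := MorphismProperty.of_isPullback (P := @IsFinite) (isPullback_left sqt) hν₀
      have : IsAffine ME := (hE.preimage νt.left)
      let jE : tot hν' CE ⟶ NR := sqN.lift (totMap hν' c₁) (proj hν' CE ≫ subι E)
        (by rw [show totMap hν' c₁ ≫ p = _ from totMap_proj hν' c₁, Category.assoc]; rfl)
      have sqj : IsPullback jE (proj hν' CE) πN (subι E) := by
        refine IsPullback.of_right ?_ (sqN.lift_snd _ _ _) sqN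
        rw [sqN.lift_fst]
        exact IsPullback.of_map (Over.forget S) (totMap_proj hν' c₁) (isPullback_totMap hν' c₁)
      have hjo' : IsOpenImmersion jE.left := MorphismProperty.of_isPullback (P := @IsOpenImmersion)
        (isPullback_left sqj).flip (inferInstanceAs (IsOpenImmersion E.ι))
      have hrange : ∀ z, πN.left z ∈ E → z ∈ Set.range jE.left := fun z hz => by
        obtain ⟨w, hw, -⟩ := Scheme.Pullback.exists_preimage_pullback (f := πN.left)
          (g := (subι E).left) z ⟨_, hz⟩ rfl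
        refine ⟨(isPullback_left sqj).isoPullback.inv w, ?_⟩
        rw [← Scheme.Hom.comp_apply, IsPullback.isoPullback_inv_fst]
        exact hw
      have hlift : Set.range (jE.left ≫ ft.left) ⊆ Set.range (νt.left ⁻¹ᵁ E).ι := by
        rw [Scheme.Opens.range_ι]
        rintro _ ⟨z, rfl⟩
        show νt.left ((jE.left ≫ ft.left) z) ∈ E
        rw [← Scheme.Hom.comp_apply, Category.assoc, ← Over.comp_left, hft₂, ← Over.comp_left,
          sqN.lift_snd]
        exact ((proj hν' CE).left z).2
      let gE := IsOpenImmersion.lift (νt.left ⁻¹ᵁ E).ι (jE.left ≫ ft.left) hlift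
      have hgE : gE ≫ (νt.left ⁻¹ᵁ E).ι = jE.left ≫ ft.left := IsOpenImmersion.lift_fac _ _ _
      have hgE' : gE ≫ (νt.left ∣_ E) = (proj hν' CE).left := by
        rw [← cancel_mono E.ι, Category.assoc, morphismRestrict_ι, reassoc_of% hgE,
          ← Over.comp_left, ← Over.comp_left, hft₂, sqN.lift_snd]
        rfl
      let qM : ME ⟶ T₀.left := (νt.left ⁻¹ᵁ E).ι ≫ qt.left
      have : Flat qt.left := MorphismProperty.of_isPullback (P := @Flat) (isPullback_left sqt).flip
        inferInstance
      have hq₁ : gE ≫ qM = (totMap hν' c₁).left ≫ f₀.left := by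
        rw [reassoc_of% hgE, ← Over.comp_left, ← Over.comp_left, hft₁, ← Category.assoc,
          sqN.lift_fst, Over.comp_left]
      have sqM : IsPullback qM (νt.left ∣_ E) ν₀.left c₁.f.left :=
        (isPullback_morphismRestrict νt.left E).flip.paste_horiz (isPullback_left sqt)
      have sqG : IsPullback (totMap hν' c₁).left gE f₀.left qM := by
        refine IsPullback.of_bot ?_ hq₁.symm sqM
        rw [hgE', ← Over.comp_left, hfac]
        exact isPullback_totMap hν' c₁
      have hgi : Function.Injective gE.appTop := injective_appTop_of_isPullback sqG hinj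
      have app : ∀ {A B C : Scheme.{u}} {k : A ⟶ B} {l : B ⟶ C} {m : A ⟶ C}, k ≫ l = m →
          ∀ x, k.appTop (l.appTop x) = m.appTop x := by
        intro A B C k l m e x
        rw [← e, Scheme.Hom.comp_appTop]
        rfl
      let Rg : Subring (sections hν' CE) := gE.appTop.hom.range
      have hA : ∀ x : fns CE, algebraMap (fns CE) (sections hν' CE) x ∈ Rg := fun x =>
        ⟨(νt.left ∣_ E).appTop x, app hgE' x⟩
      have hB : ∀ x ∈ B₀, mapM hν' c₁ x ∈ Rg := fun x hx => by
        obtain ⟨y, rfl⟩ := hsurj x hx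
        exact ⟨qM.appTop y, (app hq₁ y).trans (app rfl y).symm⟩
      have hc₂ : ∀ x ∈ B₀, mapM hν' c₂ x ∈ Rg := by
        intro x hx
        induction hx using Algebra.adjoin_induction with
        | algebraMap r => rw [mapM_algebraMap]; exact hA _
        | add x y _ _ hx hy => rw [map_add]; exact Rg.add_mem hx hy
        | mul x y _ _ hx hy => rw [map_mul]; exact Rg.mul_mem hx hy
        | mem x hx =>
          have hmem : mapM hν' c₂ x ∈ push hν' c₁ G :=
            (hst CE (fun _ => trivial) c₁ c₂).symm ▸ mem_push hν' c₂ hx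
          have key : ∀ z ∈ push hν' c₁ G, z ∈ Rg := by
            intro z hz
            induction hz using Submodule.span_induction with
            | mem y hy =>
              obtain ⟨m, hm, rfl⟩ := hy
              exact hB m (hGB hm)
            | zero => exact Rg.zero_mem
            | add y z _ _ hy hz => exact Rg.add_mem hy hz
            | smul r y _ hy => rw [Algebra.smul_def]; exact Rg.mul_mem (hA r) hy
          exact key _ hmem
      let e := RingEquiv.ofBijective gE.appTop.hom.rangeRestrict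
        ⟨fun x y h => hgi (congrArg Subtype.val h), gE.appTop.hom.rangeRestrict_surjective⟩
      let ψ : CommRingCat.of B₀ ⟶ Γ(ME, ⊤) := CommRingCat.ofHom ((e.symm : Rg →+* Γ(ME, ⊤)).comp
        (((mapM hν' c₂).comp B₀.val.toRingHom).codRestrict Rg fun x => hc₂ x.1 x.2))
      have hψ : ψ ≫ gE.appTop = incl ≫ (totMap hν' c₂).left.appTop := by
        ext x
        exact congrArg Subtype.val (e.apply_symm_apply ⟨mapM hν' c₂ x.1, hc₂ x.1 x.2⟩)
      let σ : ME ⟶ T₀.left := ME.isoSpec.hom ≫ Spec.map ψ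
      have hσ : gE ≫ σ = (totMap hν' c₂).left ≫ f₀.left := by
        show gE ≫ ME.isoSpec.hom ≫ Spec.map ψ = _ ≫ NU.left.isoSpec.hom ≫ Spec.map incl
        rw [← Scheme.isoSpec_hom_naturality_assoc, ← Scheme.isoSpec_hom_naturality_assoc,
          ← Spec.map_comp, ← Spec.map_comp, hψ]
      refine ⟨σ, ?_, (tot hν' CE), jE, gE, hjo', hrange, hgE, ?_⟩
      · refine hom_ext_of_flat hinj sqG ?_
        have e₁ : f₀.left ≫ ν₀.left = p.left := congrArg CommaMorphism.left hfac
        have e₂ : ft.left ≫ νt.left = πN.left := congrArg CommaMorphism.left hft₂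
        have e₃ : (totMap hν' c₂).left ≫ p.left = (proj hν' CE).left ≫ E.ι ≫ s.left :=
          congrArg CommaMorphism.left (totMap_proj hν' c₂)
        have e₄ : jE.left ≫ πN.left = (proj hν' CE).left ≫ E.ι :=
          congrArg CommaMorphism.left (sqN.lift_snd _ _ _)
        rw [reassoc_of% hσ, reassoc_of% hgE, e₁, e₃, reassoc_of% e₂, reassoc_of% e₄]
      · rw [hσ, ← Over.comp_left, ← Over.comp_left, ← Over.comp_left]
        congr 1
        rw [← Category.assoc]
        congr 1
        apply (yon S).map_injective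
        apply (isPullback_tot hν' CU).hom_ext
        · rw [totMap_toN, Functor.map_comp, Category.assoc, hv₁, ← Category.assoc,
            ← Functor.map_comp, sqN.lift_fst, totMap_toN]
        · rw [← Functor.map_comp, ← Functor.map_comp, totMap_proj, Category.assoc, hv₂,
            sqN.lift_snd_assoc]
          rfl
    choose σ hσν CE jE gE hjE hrng hgE hσ using hloc
    -- glue
    have : IsFinite νt.left := MorphismProperty.of_isPullback (P := @IsFinite) (isPullback_left sqt) hν₀
    have hcov : ⨆ E : R.left.affineOpens, νt.left ⁻¹ᵁ E.1 = ⊤ := by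
      rw [← Scheme.Hom.preimage_iSup, iSup_affineOpens_eq_top, Scheme.Hom.preimage_top]
    let 𝒰 := Nt.left.openCoverOfIsOpenCover (fun E : R.left.affineOpens => νt.left ⁻¹ᵁ E.1) hcov
    have : Flat qt.left := MorphismProperty.of_isPullback (P := @Flat) (isPullback_left sqt).flip
      inferInstance
    have sqF : IsPullback qN ft f₀ qt :=
      IsPullback.of_bot (by rw [hft₂, hfac]; exact sqN) hft₁.symm sqt
    have key : ∀ (E : R.left.affineOpens) {P : Scheme.{u}} (z : P ⟶ NR.left)
        (w : P ⟶ (νt.left ⁻¹ᵁ E.1).toScheme), z ≫ ft.left = w ≫ (νt.left ⁻¹ᵁ E.1).ι →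
        w ≫ σ E = z ≫ v.left ≫ f₀.left := by
      intro E P z w e
      have hr : Set.range z ⊆ Set.range (jE E).left := by
        rintro _ ⟨x, rfl⟩
        apply hrng E
        rw [← hft₂, Over.comp_left, Scheme.Hom.comp_apply, ← Scheme.Hom.comp_apply z, e]
        exact (w x).2
      have := hjE E
      have hw : w = IsOpenImmersion.lift (jE E).left z hr ≫ gE E := by
        rw [← cancel_mono (νt.left ⁻¹ᵁ E.1).ι, Category.assoc, hgE, IsOpenImmersion.lift_fac_assoc, e]
      rw [hw, Category.assoc, hσ, IsOpenImmersion.lift_fac_assoc]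
    have hglue : ∀ E E' : R.left.affineOpens,
        pullback.fst (𝒰.f E) (𝒰.f E') ≫ σ E = pullback.snd (𝒰.f E) (𝒰.f E') ≫ σ E' := by
      intro E E'
      let k := pullback.fst (𝒰.f E) (𝒰.f E') ≫ 𝒰.f E
      have : IsOpenImmersion k := inferInstanceAs (IsOpenImmersion (_ ≫ _))
      refine hom_ext_of_flat hinj
        ((IsPullback.of_hasPullback ft.left k).paste_horiz (isPullback_left sqF)) ?_
      have e₀ := pullback.condition (f := ft.left) (g := k)
      have h₁ := key E (pullback.fst ft.left k) (pullback.snd ft.left k ≫ pullback.fst (𝒰.f E) (𝒰.f E'))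
        (e₀.trans (Category.assoc _ _ _).symm)
      have h₂ := key E' (pullback.fst ft.left k) (pullback.snd ft.left k ≫ pullback.snd (𝒰.f E) (𝒰.f E'))
        (e₀.trans ((congrArg (pullback.snd ft.left k ≫ ·) pullback.condition).trans
          (Category.assoc _ _ _).symm))
      exact (Category.assoc _ _ _).symm.trans (h₁.trans (h₂.symm.trans (Category.assoc _ _ _)))
    have hgl : ∀ E, 𝒰.f E ≫ 𝒰.glueMorphisms σ hglue = σ E := fun E => Scheme.Cover.ι_glueMorphisms _ _ _ E
    have hgν : 𝒰.glueMorphisms σ hglue ≫ ν₀.left = (νt ≫ s).left := by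
      refine 𝒰.hom_ext _ _ fun E => ?_
      exact ((Category.assoc _ _ _).symm.trans (congrArg (· ≫ ν₀.left) (hgl E))).trans (hσν E)
    refine ⟨Over.homMk (𝒰.glueMorphisms σ hglue) (by
      rw [← Over.w ν₀, ← Category.assoc, hgν, Over.w (νt ≫ s)]), Over.OverMorphism.ext hgν, ?_⟩
    rw [← Functor.map_comp, ← Functor.map_comp]
    congr 1
    ext : 1
    have hcov' : ⨆ E : R.left.affineOpens, ft.left ⁻¹ᵁ (νt.left ⁻¹ᵁ E.1) = ⊤ := by
      rw [← Scheme.Hom.preimage_iSup, hcov, Scheme.Hom.preimage_top]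
    refine (NR.left.openCoverOfIsOpenCover _ hcov').hom_ext _ _ fun E => ?_
    show (ft.left ⁻¹ᵁ (νt.left ⁻¹ᵁ E.1)).ι ≫ ft.left ≫ 𝒰.glueMorphisms σ hglue =
      (ft.left ⁻¹ᵁ (νt.left ⁻¹ᵁ E.1)).ι ≫ v.left ≫ f₀.left
    rw [← reassoc_of% (morphismRestrict_ι ft.left (νt.left ⁻¹ᵁ E.1)),
      show (νt.left ⁻¹ᵁ E.1).ι ≫ 𝒰.glueMorphisms σ hglue = σ E from hgl E]
    exact key E _ _ (morphismRestrict_ι ft.left (νt.left ⁻¹ᵁ E.1)).symm

end

end Groth.AlgSp2.QcAffine
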