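import Mathlib.RingTheory.IsTensorProduct
import Mathlib.RingTheory.Flat.Basic
import Mathlib.LinearAlgebra.TensorProduct.Pi
import Mathlib.RingTheory.Ideal.Maximal
import Mathlib.RingTheory.Finiteness.Basic

/-!
# Submodules and flat base change: generation, descent, locality
-/

set_option autoImplicit false
set_option linter.unusedSectionVars false
universe u

open TensorProduct

namespace Groth.AlgSp2.QcAffine

variable {A : Type u} [CommRing A]
variable {A' M M' : Type u} [CommRing A'] [Algebra A A'] [AddCommGroup M] [Module A M]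
  [AddCommGroup M'] [Module A M'] [Module A' M'] [IsScalarTower A A' M']

/-- The submodule generated by the image of a submodule. -/
def spanImg (φ : M →ₗ[A] M') (G : Submodule A M) : Submodule A' M' :=
  Submodule.span A' (φ '' (G : Set M))

variable {φ : M →ₗ[A] M'}

theorem spanImg_mono {G G' : Submodule A M} (h : G ≤ G') :
    spanImg (A' := A') φ G ≤ spanImg φ G' :=
  Submodule.span_mono (Set.image_mono h)

theorem spanImg_fg {G : Submodule A M} (h : G.FG) : (spanImg (A' := A') φ G).FG := by
  classical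
  obtain ⟨s, rfl⟩ := h
  refine ⟨s.image φ, le_antisymm (Submodule.span_mono ?_) (Submodule.span_le.2 ?_)⟩
  · rw [Finset.coe_image]; exact Set.image_mono Submodule.subset_span
  · rw [Finset.coe_image]
    rintro _ ⟨x, hx, rfl⟩
    have h1 := Submodule.apply_mem_span_image_of_mem_span φ hx
    exact Submodule.span_le_restrictScalars A A' (φ '' (s : Set M)) h1

theorem exists_fg_mem_spanImg (hφ : IsBaseChange A' φ) (x : M') :
    ∃ G : Submodule A M, G.FG ∧ x ∈ spanImg (A' := A') φ G := by
  obtain ⟨y, rfl⟩ := hφ.equiv.surjective x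
  induction y with
  | zero => exact ⟨⊥, Submodule.fg_bot, by rw [map_zero]; exact Submodule.zero_mem _⟩
  | tmul a m =>
    refine ⟨Submodule.span A {m}, Submodule.fg_span_singleton m, ?_⟩
    rw [hφ.equiv_tmul]
    exact Submodule.smul_mem _ _ (Submodule.subset_span ⟨m, Submodule.mem_span_singleton_self m, rfl⟩)
  | add y z hy hz =>
    obtain ⟨G, hG, hy⟩ := hy
    obtain ⟨G', hG', hz⟩ := hz
    exact ⟨G ⊔ G', hG.sup hG', by
      rw [map_add]
      exact Submodule.add_mem _ (spanImg_mono le_sup_left hy) (spanImg_mono le_sup_right hz)⟩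

/-- Finitely many sections are generated by finitely many sections of the base. -/
theorem exists_fg_le_spanImg (hφ : IsBaseChange A' φ) {H : Submodule A' M'} (hH : H.FG) :
    ∃ G : Submodule A M, G.FG ∧ H ≤ spanImg φ G := by
  classical
  obtain ⟨s, rfl⟩ := hH
  choose G hG hx using exists_fg_mem_spanImg hφ
  exact ⟨s.sup G, Submodule.fg_finset_sup s G (fun x _ => hG x),
    Submodule.span_le.2 fun x hx' => spanImg_mono (Finset.le_sup hx') (hx x)⟩

theorem range_equiv_lTensor_le (hφ : IsBaseChange A' φ) (N : Submodule A M) (y : A' ⊗[A] N) :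
    hφ.equiv (N.subtype.lTensor A' y) ∈ spanImg (A' := A') φ N := by
  induction y with
  | zero => simp
  | tmul a m =>
    rw [LinearMap.lTensor_tmul, hφ.equiv_tmul]
    exact Submodule.smul_mem _ _ (Submodule.subset_span ⟨m.1, m.2, rfl⟩)
  | add y z hy hz => rw [map_add, map_add]; exact Submodule.add_mem _ hy hz

theorem exists_of_mem_spanImg (hφ : IsBaseChange A' φ) (N : Submodule A M) {x : M'}
    (hx : x ∈ spanImg (A' := A') φ N) : ∃ y : A' ⊗[A] N, hφ.equiv (N.subtype.lTensor A' y) = x := by
  induction hx using Submodule.span_induction with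
  | mem x hx =>
    obtain ⟨m, hm, rfl⟩ := hx
    exact ⟨1 ⊗ₜ ⟨m, hm⟩, by rw [LinearMap.lTensor_tmul, hφ.equiv_tmul, one_smul]; rfl⟩
  | zero => exact ⟨0, by simp⟩
  | add x z _ _ hx hz =>
    obtain ⟨y, rfl⟩ := hx
    obtain ⟨y', rfl⟩ := hz
    exact ⟨y + y', by rw [map_add, map_add]⟩
  | smul a x _ hx =>
    obtain ⟨y, rfl⟩ := hx
    exact ⟨a • y, by
      rw [← LinearEquiv.map_smul]
      congr 1
      exact (TensorProduct.AlgebraTensorModule.lTensor A' A' N.subtype).map_smul a y⟩

/-- The kernel of a family of maps into quotients generates after a flat extension everything which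
goes to zero in the extended quotients. -/
theorem mem_spanImg_of_forall [Module.Flat A A'] (hφ : IsBaseChange A' φ) {κ : Type*} [Finite κ]
    {Mk : κ → Type u} [∀ k, AddCommGroup (Mk k)] [∀ k, Module A (Mk k)]
    (f : ∀ k, M →ₗ[A] Mk k) (Hk : ∀ k, Submodule A (Mk k)) {x : M'}
    (hx : ∀ k, (f k).lTensor A' (hφ.equiv.symm x) ∈ LinearMap.range ((Hk k).subtype.lTensor A')) :
    x ∈ spanImg (A' := A') φ (⨅ k, (Hk k).comap (f k)) := by
  classical
  have := Fintype.ofFinite κ
  let π : M →ₗ[A] ∀ k, Mk k ⧸ Hk k := LinearMap.pi fun k => (Hk k).mkQ ∘ₗ f k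
  have hker : LinearMap.ker π = ⨅ k, (Hk k).comap (f k) := by
    ext m
    simp [π, LinearMap.ker_pi, Submodule.mem_iInf]
  have hexact : Function.Exact (⨅ k, (Hk k).comap (f k)).subtype π := by
    rw [← hker]; exact π.exact_subtype_ker_map
  have key : ∀ (k : κ) (w : A' ⊗[A] M),
      TensorProduct.piRight A A A' (fun k => Mk k ⧸ Hk k) (π.lTensor A' w) k =
        (Hk k).mkQ.lTensor A' ((f k).lTensor A' w) := by
    intro k w
    induction w with
    | zero => simp
    | tmul a m => simp [π]
    | add w w' hw hw' => simp only [map_add, Pi.add_apply, hw, hw']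
  have h0 : π.lTensor A' (hφ.equiv.symm x) = 0 := by
    apply (TensorProduct.piRight A A A' (fun k => Mk k ⧸ Hk k)).injective
    ext k
    obtain ⟨z, hz⟩ := hx k
    rw [key, ← hz, map_zero, Pi.zero_apply, ← LinearMap.comp_apply, ← LinearMap.lTensor_comp]
    have : (Hk k).mkQ ∘ₗ (Hk k).subtype = 0 := by ext m; simp
    rw [this, LinearMap.lTensor_zero, LinearMap.zero_apply]
  obtain ⟨y, hy⟩ := ((Module.Flat.lTensor_exact A' hexact) _).1 h0
  have := range_equiv_lTensor_le hφ _ y
  rwa [hy, LinearEquiv.apply_symm_apply] at this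

/-- The quotient by a submodule kills an element whose image lies in the submodule generated. -/
theorem mkQ_lTensor_eq_zero (hφ : IsBaseChange A' φ) (G : Submodule A M) {x : M}
    (hx : φ x ∈ spanImg (A' := A') φ G) : (1 : A') ⊗ₜ[A] G.mkQ x = 0 := by
  obtain ⟨y, hy⟩ := exists_of_mem_spanImg hφ G hx
  have e : (1 : A') ⊗ₜ[A] x = G.subtype.lTensor A' y :=
    hφ.equiv.injective (by rw [hy, hφ.equiv_tmul, one_smul])
  have : G.mkQ ∘ₗ G.subtype = 0 := by ext m; simp
  rw [← LinearMap.lTensor_tmul, e, ← LinearMap.comp_apply, ← LinearMap.lTensor_comp, this,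
    LinearMap.lTensor_zero, LinearMap.zero_apply]

/-- Membership in a submodule is local for jointly surjective flat extensions. -/
theorem mem_of_forall_spanImg {κ : Type*} {B : κ → Type u} [∀ k, CommRing (B k)] [∀ k, Algebra A (B k)]
    [∀ k, Module.Flat A (B k)] {N : κ → Type u} [∀ k, AddCommGroup (N k)] [∀ k, Module A (N k)]
    [∀ k, Module (B k) (N k)] [∀ k, IsScalarTower A (B k) (N k)] (ψ : ∀ k, M →ₗ[A] N k)
    (hψ : ∀ k, IsBaseChange (B k) (ψ k))
    (hcov : ∀ p : Ideal A, p.IsPrime → ∃ k, p.map (algebraMap A (B k)) ≠ ⊤)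
    (G : Submodule A M) {x : M} (hx : ∀ k, ψ k x ∈ spanImg (A' := B k) (ψ k) G) : x ∈ G := by
  by_contra hxG
  let I : Ideal A := LinearMap.ker (LinearMap.toSpanSingleton A (M ⧸ G) (G.mkQ x))
  have hI : I ≠ ⊤ := fun h => hxG (by
    have : (1 : A) ∈ I := h ▸ Submodule.mem_top
    simpa [I] using this)
  obtain ⟨p, hp, hIp⟩ := Ideal.exists_le_maximal I hI
  obtain ⟨k, hk⟩ := hcov p hp.isPrime
  refine hk (top_le_iff.1 (le_trans ?_ (Ideal.map_mono hIp)))
  have hexact : Function.Exact I.subtype (LinearMap.toSpanSingleton A (M ⧸ G) (G.mkQ x)) :=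
    LinearMap.exact_subtype_ker_map _
  have h1 : (LinearMap.toSpanSingleton A (M ⧸ G) (G.mkQ x)).lTensor (B k) (1 ⊗ₜ (1 : A)) = 0 := by
    rw [LinearMap.lTensor_tmul, LinearMap.toSpanSingleton_apply, one_smul]
    exact mkQ_lTensor_eq_zero (hψ k) G (hx k)
  obtain ⟨y, hy⟩ := ((Module.Flat.lTensor_exact (B k) hexact) _).1 h1
  have hy' := congrArg (TensorProduct.rid A (B k)) hy
  rw [TensorProduct.rid_tmul, one_smul] at hy'
  intro b _
  have hmem : TensorProduct.rid A (B k) (I.subtype.lTensor (B k) y) ∈ I.map (algebraMap A (B k)) := by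
    clear hy hy'
    induction y with
    | zero => simp
    | tmul c i =>
      rw [LinearMap.lTensor_tmul, TensorProduct.rid_tmul, Algebra.smul_def]
      exact Ideal.mul_mem_right _ _ (Ideal.mem_map_of_mem _ i.2)
    | add y z hy hz => rw [map_add, map_add]; exact Submodule.add_mem _ hy hz
  rw [hy'] at hmem
  simpa using Ideal.mul_mem_left _ b hmem

/-- A finitely generated submodule inside a generated one is inside one generated by finitely many
elements. -/
theorem exists_fg_sub_le_spanImg {N : Submodule A M} {H : Submodule A' M'} (hH : H.FG)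
    (hle : H ≤ spanImg φ N) : ∃ G : Submodule A M, G ≤ N ∧ G.FG ∧ H ≤ spanImg φ G := by
  classical
  have key : ∀ x ∈ spanImg (A' := A') φ N,
      ∃ G : Submodule A M, G ≤ N ∧ G.FG ∧ x ∈ spanImg (A' := A') φ G := by
    intro x hx
    induction hx using Submodule.span_induction with
    | mem x hx =>
      obtain ⟨m, hm, rfl⟩ := hx
      exact ⟨Submodule.span A {m}, (Submodule.span_singleton_le_iff_mem _ _).2 hm,
        Submodule.fg_span_singleton m,
        Submodule.subset_span ⟨m, Submodule.mem_span_singleton_self m, rfl⟩⟩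
    | zero => exact ⟨⊥, bot_le, Submodule.fg_bot, Submodule.zero_mem _⟩
    | add x y _ _ hx hy =>
      obtain ⟨G, h, hG, hx⟩ := hx
      obtain ⟨G', h', hG', hy⟩ := hy
      exact ⟨G ⊔ G', sup_le h h', hG.sup hG', Submodule.add_mem _
        (spanImg_mono le_sup_left hx) (spanImg_mono le_sup_right hy)⟩
    | smul a x _ hx =>
      obtain ⟨G, h, hG, hx⟩ := hx
      exact ⟨G, h, hG, Submodule.smul_mem _ a hx⟩
  obtain ⟨s, rfl⟩ := hH
  choose G hN hG hx using fun x : s => key x.1 (hle (Submodule.subset_span x.2))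
  exact ⟨Finset.univ.sup G, Finset.sup_le fun x _ => hN x,
    Submodule.fg_finset_sup _ G fun x _ => hG x,
    Submodule.span_le.2 fun x hx' =>
      spanImg_mono (Finset.le_sup (Finset.mem_univ (⟨x, hx'⟩ : s))) (hx ⟨x, hx'⟩)⟩

/-- Flat extension commutes with intersections. -/
theorem mem_spanImg_inf [Module.Flat A A'] (hφ : IsBaseChange A' φ) {P Q : Submodule A M} {x : M'}
    (hP : x ∈ spanImg (A' := A') φ P) (hQ : x ∈ spanImg (A' := A') φ Q) :
    x ∈ spanImg (A' := A') φ (P ⊓ Q) := by
  have key : ∀ R : Submodule A M, x ∈ spanImg (A' := A') φ R →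
      (LinearMap.id : M →ₗ[A] M).lTensor A' (hφ.equiv.symm x) ∈
        LinearMap.range (R.subtype.lTensor A') := by
    intro R hR
    obtain ⟨y, hy⟩ := exists_of_mem_spanImg hφ R hR
    exact ⟨y, by rw [LinearMap.lTensor_id, LinearMap.id_apply, ← hy, LinearEquiv.symm_apply_apply]⟩
  have h := mem_spanImg_of_forall hφ (κ := Bool) (Mk := fun _ => M) (fun _ => LinearMap.id)
    (fun b => if b then P else Q) (fun b => by cases b <;> [exact key Q hQ; exact key P hP])
  refine spanImg_mono (fun m hm => ?_) h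
  simp only [Submodule.mem_iInf, Submodule.mem_comap, LinearMap.id_apply] at hm
  exact ⟨hm true, hm false⟩

end Groth.AlgSp2.QcAffine
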