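import Groth.Agent.AlgSp2.QcAffine.Alg
import Groth.Agent.AlgSpBasic.EqualizerFlat
import Groth.Agent.AlgSpBasic.AffineMor
import Mathlib.AlgebraicGeometry.Morphisms.Flat

/-!
# Sections of an affine morphism over affine charts of the base
-/

set_option autoImplicit false
set_option linter.unusedSectionVars false
set_option backward.isDefEq.respectTransparency.types false
universe u

open CategoryTheory CategoryTheory.Limits AlgebraicGeometry Opposite AlgSp TensorProduct

namespace Groth.AlgSp2.QcAffine

noncomputable section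

variable {S : Scheme.{u}}

/-- An affine scheme mapping to a sheaf. -/
structure Chart (Y : Sp S) : Type (u + 1) where
  Z : Over S
  aff : IsAffine Z.left
  b : (yon S).obj Z ⟶ Y

attribute [instance] Chart.aff

/-- A morphism of charts. -/
@[ext]
structure CHom {Y : Sp S} (C' C : Chart Y) : Type (u + 1) where
  f : C'.Z ⟶ C.Z
  w : (yon S).map f ≫ C.b = C'.b

namespace CHom

variable {Y : Sp S} {C C' C'' : Chart Y}

/-- Composition of morphisms of charts. -/
@[simps]
def comp (d : CHom C'' C') (c : CHom C' C) : CHom C'' C :=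
  ⟨d.f ≫ c.f, by rw [Functor.map_comp, Category.assoc, c.w, d.w]⟩

/-- The identity. -/
@[simps]
def id (C : Chart Y) : CHom C C := ⟨𝟙 _, by rw [CategoryTheory.Functor.map_id, Category.id_comp]⟩

end CHom

variable {Y N : Sp S} {ν : N ⟶ Y} (hν : IsAffineMor ν)

/-- The inverse image of a chart. -/
def tot (C : Chart Y) : Over S := (hν C.aff C.b).choose

/-- Its projection to the chart. -/
def proj (C : Chart Y) : tot hν C ⟶ C.Z := (hν C.aff C.b).choose_spec.choose

/-- Its map to the total space. -/
def toN (C : Chart Y) : (yon S).obj (tot hν C) ⟶ N :=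
  (hν C.aff C.b).choose_spec.choose_spec.choose

theorem isPullback_tot (C : Chart Y) :
    IsPullback (toN hν C) ((yon S).map (proj hν C)) ν C.b :=
  (hν C.aff C.b).choose_spec.choose_spec.choose_spec.1

instance (C : Chart Y) : IsAffine (tot hν C).left :=
  (hν C.aff C.b).choose_spec.choose_spec.choose_spec.2

/-- The map of inverse images. -/
def totMap {C' C : Chart Y} (c : CHom C' C) : tot hν C' ⟶ tot hν C :=
  (yon S).preimage ((isPullback_tot hν C).lift (toN hν C') ((yon S).map (proj hν C' ≫ c.f))
    (by rw [(isPullback_tot hν C').w, Functor.map_comp, Category.assoc, c.w]))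

theorem totMap_toN {C' C : Chart Y} (c : CHom C' C) :
    (yon S).map (totMap hν c) ≫ toN hν C = toN hν C' := by
  rw [totMap, Functor.map_preimage, IsPullback.lift_fst]

theorem totMap_proj {C' C : Chart Y} (c : CHom C' C) :
    totMap hν c ≫ proj hν C = proj hν C' ≫ c.f := (yon S).map_injective (by
  rw [Functor.map_comp, totMap, Functor.map_preimage, IsPullback.lift_snd])

theorem totMap_comp {C'' C' C : Chart Y} (d : CHom C'' C') (c : CHom C' C) :
    totMap hν d ≫ totMap hν c = totMap hν (d.comp c) := (yon S).map_injective (by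
  apply (isPullback_tot hν C).hom_ext
  · rw [Functor.map_comp, Category.assoc, totMap_toN, totMap_toN, totMap_toN]
  · rw [← Functor.map_comp, ← Functor.map_comp, Category.assoc, totMap_proj, totMap_proj,
      ← Category.assoc, totMap_proj, Category.assoc, CHom.comp_f])

theorem totMap_id (C : Chart Y) : totMap hν (CHom.id C) = 𝟙 _ := (yon S).map_injective (by
  apply (isPullback_tot hν C).hom_ext
  · rw [totMap_toN, CategoryTheory.Functor.map_id, Category.id_comp]
  · rw [← Functor.map_comp, totMap_proj, CategoryTheory.Functor.map_id, Category.id_comp,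
      CHom.id_f, Category.comp_id])

theorem isPullback_totMap {C' C : Chart Y} (c : CHom C' C) :
    IsPullback (totMap hν c).left (proj hν C').left (proj hν C).left c.f.left := by
  have h : IsPullback ((yon S).map (totMap hν c)) ((yon S).map (proj hν C'))
      ((yon S).map (proj hν C)) ((yon S).map c.f) :=
    IsPullback.of_right (by rw [totMap_toN, c.w]; exact isPullback_tot hν C')
      (by rw [← Functor.map_comp, ← Functor.map_comp, totMap_proj]) (isPullback_tot hν C)
  exact Groth.AlgSpBasic.isPullback_left (IsPullback.of_map (yon S) (totMap_proj hν c) h)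

/-- The ring of functions of a chart. -/
abbrev fns (C : Chart Y) : Type u := Γ(C.Z.left, ⊤)

/-- The ring of functions of the inverse image of a chart. -/
abbrev sections (C : Chart Y) : Type u := Γ((tot hν C).left, ⊤)

instance algSections (C : Chart Y) : Algebra (fns C) (sections hν C) :=
  (proj hν C).left.appTop.hom.toAlgebra

theorem algebraMap_sections (C : Chart Y) (a : fns C) :
    algebraMap (fns C) (sections hν C) a = (proj hν C).left.appTop a := rfl

/-- The map of functions. -/
def mapA {C' C : Chart Y} (c : CHom C' C) : fns C →+* fns C' := c.f.left.appTop.hom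

/-- The map of sections. -/
def mapM {C' C : Chart Y} (c : CHom C' C) : sections hν C →+* sections hν C' :=
  (totMap hν c).left.appTop.hom

theorem mapA_comp {C'' C' C : Chart Y} (d : CHom C'' C') (c : CHom C' C) (a : fns C) :
    mapA (d.comp c) a = mapA d (mapA c a) := by
  show (d.f ≫ c.f).left.appTop a = d.f.left.appTop (c.f.left.appTop a)
  rw [Over.comp_left, Scheme.Hom.comp_appTop]
  rfl

theorem mapM_comp {C'' C' C : Chart Y} (d : CHom C'' C') (c : CHom C' C) (m : sections hν C) :
    mapM hν (d.comp c) m = mapM hν d (mapM hν c m) := by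
  show (totMap hν (d.comp c)).left.appTop m = (totMap hν d).left.appTop ((totMap hν c).left.appTop m)
  rw [← totMap_comp, Over.comp_left, Scheme.Hom.comp_appTop]
  rfl

theorem mapM_id (C : Chart Y) (m : sections hν C) : mapM hν (CHom.id C) m = m := by
  show (totMap hν (CHom.id C)).left.appTop m = m
  rw [totMap_id, Over.id_left, Scheme.Hom.id_appTop]
  rfl

theorem mapM_algebraMap {C' C : Chart Y} (c : CHom C' C) (a : fns C) :
    mapM hν c (algebraMap (fns C) (sections hν C) a) =
      algebraMap (fns C') (sections hν C') (mapA c a) := by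
  show (totMap hν c).left.appTop ((proj hν C).left.appTop a) =
    (proj hν C').left.appTop (c.f.left.appTop a)
  have e := congrArg (fun k => k.left.appTop a) (totMap_proj hν c)
  simp only [Over.comp_left, Scheme.Hom.comp_appTop] at e
  exact e

theorem mapM_smul {C' C : Chart Y} (c : CHom C' C) (a : fns C) (m : sections hν C) :
    mapM hν c (a • m) = mapA c a • mapM hν c m := by
  rw [Algebra.smul_def, map_mul, mapM_algebraMap, ← Algebra.smul_def]

/-- The submodule generated by the pullback of a submodule. -/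
def push {C' C : Chart Y} (c : CHom C' C) (G : Submodule (fns C) (sections hν C)) :
    Submodule (fns C') (sections hν C') :=
  Submodule.span (fns C') (mapM hν c '' (G : Set (sections hν C)))

theorem mem_push {C' C : Chart Y} (c : CHom C' C) {G : Submodule (fns C) (sections hν C)}
    {m : sections hν C} (hm : m ∈ G) : mapM hν c m ∈ push hν c G :=
  Submodule.subset_span ⟨m, hm, rfl⟩

theorem push_le_iff {C' C : Chart Y} (c : CHom C' C) {G : Submodule (fns C) (sections hν C)}
    {H : Submodule (fns C') (sections hν C')} :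
    push hν c G ≤ H ↔ ∀ m ∈ G, mapM hν c m ∈ H := by
  rw [push, Submodule.span_le, Set.image_subset_iff]
  exact Iff.rfl

theorem push_mono {C' C : Chart Y} (c : CHom C' C) {G G' : Submodule (fns C) (sections hν C)}
    (h : G ≤ G') : push hν c G ≤ push hν c G' :=
  Submodule.span_mono (Set.image_mono h)

theorem push_comp {C'' C' C : Chart Y} (d : CHom C'' C') (c : CHom C' C)
    (G : Submodule (fns C) (sections hν C)) :
    push hν (d.comp c) G = push hν d (push hν c G) := by
  refine le_antisymm ((push_le_iff hν _).2 fun m hm => ?_) ((push_le_iff hν _).2 fun m hm => ?_)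
  · rw [mapM_comp]
    exact mem_push hν d (mem_push hν c hm)
  · change m ∈ Submodule.span _ _ at hm
    induction hm using Submodule.span_induction with
    | mem x hx =>
      obtain ⟨y, hy, rfl⟩ := hx
      rw [← mapM_comp]
      exact mem_push hν _ hy
    | zero => rw [map_zero]; exact Submodule.zero_mem _
    | add x y _ _ hx hy => rw [map_add]; exact Submodule.add_mem _ hx hy
    | smul a x _ hx => rw [mapM_smul]; exact Submodule.smul_mem _ _ hx

theorem push_id (C : Chart Y) (G : Submodule (fns C) (sections hν C)) :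
    push hν (CHom.id C) G = G := by
  refine le_antisymm ((push_le_iff hν _).2 fun m hm => by rwa [mapM_id]) fun m hm => ?_
  have := mem_push hν (CHom.id C) hm
  rwa [mapM_id] at this

theorem push_fg {C' C : Chart Y} (c : CHom C' C) {G : Submodule (fns C) (sections hν C)}
    (h : G.FG) : (push hν c G).FG := by
  classical
  obtain ⟨s, rfl⟩ := h
  refine ⟨s.image (mapM hν c), le_antisymm (Submodule.span_le.2 ?_) ((push_le_iff hν _).2 ?_)⟩
  · rw [Finset.coe_image]
    rintro _ ⟨x, hx, rfl⟩
    exact mem_push hν c (Submodule.subset_span hx)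
  · rw [Finset.coe_image]
    intro m hm
    induction hm using Submodule.span_induction with
    | mem x hx => exact Submodule.subset_span ⟨x, hx, rfl⟩
    | zero => rw [map_zero]; exact Submodule.zero_mem _
    | add x y _ _ hx hy => rw [map_add]; exact Submodule.add_mem _ hx hy
    | smul a x _ hx => rw [mapM_smul]; exact Submodule.smul_mem _ _ hx

theorem push_sup {C' C : Chart Y} (c : CHom C' C) (G G' : Submodule (fns C) (sections hν C)) :
    push hν c (G ⊔ G') = push hν c G ⊔ push hν c G' := by
  refine le_antisymm ((push_le_iff hν _).2 fun m hm => ?_)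
    (sup_le (push_mono hν c le_sup_left) (push_mono hν c le_sup_right))
  obtain ⟨x, hx, y, hy, rfl⟩ := Submodule.mem_sup.1 hm
  rw [map_add]
  exact Submodule.add_mem_sup (mem_push hν c hx) (mem_push hν c hy)

section BaseChange

variable {C' C : Chart Y} (c : CHom C' C)

/-- Two cartesian squares of affine schemes: sections of the base change are a base change. -/
theorem isBaseChange_of_square {T Q Z Z' : Scheme.{u}} [IsAffine Q] [IsAffine Z] [IsAffine Z']
    {t : T ⟶ Q} {π' : T ⟶ Z'} {π : Q ⟶ Z} {k : Z' ⟶ Z} (sq : IsPullback t π' π k) :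
    ∀ [Algebra Γ(Z, ⊤) Γ(Z', ⊤)] [Algebra Γ(Z, ⊤) Γ(Q, ⊤)] [Algebra Γ(Z', ⊤) Γ(T, ⊤)]
      [Algebra Γ(Z, ⊤) Γ(T, ⊤)] [IsScalarTower Γ(Z, ⊤) Γ(Z', ⊤) Γ(T, ⊤)]
      (φ : Γ(Q, ⊤) →ₗ[Γ(Z, ⊤)] Γ(T, ⊤)),
      (∀ a, algebraMap Γ(Z, ⊤) Γ(Z', ⊤) a = k.appTop a) →
      (∀ a, algebraMap Γ(Z, ⊤) Γ(Q, ⊤) a = π.appTop a) →
      (∀ a, algebraMap Γ(Z', ⊤) Γ(T, ⊤) a = π'.appTop a) →
      (∀ m, φ m = t.appTop m) → IsBaseChange Γ(Z', ⊤) φ := by
  intro _ _ _ _ _ φ h₁ h₂ h₃ h₄
  let _ : Algebra Γ(Q, ⊤) Γ(T, ⊤) := t.appTop.hom.toAlgebra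
  have ew : ∀ a, t.appTop (π.appTop a) = π'.appTop (k.appTop a) := fun a => by
    have e := congrArg (fun g : T ⟶ Z => g.appTop a) sq.w
    simp only [Scheme.Hom.comp_appTop] at e
    exact e
  have : IsScalarTower Γ(Z, ⊤) Γ(Q, ⊤) Γ(T, ⊤) := IsScalarTower.of_algebraMap_eq fun a => by
    rw [IsScalarTower.algebraMap_apply Γ(Z, ⊤) Γ(Z', ⊤) Γ(T, ⊤), h₁, h₃, h₂]
    exact (ew a).symm
  have hp := isPushout_appTop_of_isPullback sq
  have e₁ : k.appTop = CommRingCat.ofHom (algebraMap Γ(Z, ⊤) Γ(Z', ⊤)) :=
    CommRingCat.hom_ext (RingHom.ext fun a => (h₁ a).symm)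
  have e₂ : π.appTop = CommRingCat.ofHom (algebraMap Γ(Z, ⊤) Γ(Q, ⊤)) :=
    CommRingCat.hom_ext (RingHom.ext fun a => (h₂ a).symm)
  have e₃ : π'.appTop = CommRingCat.ofHom (algebraMap Γ(Z', ⊤) Γ(T, ⊤)) :=
    CommRingCat.hom_ext (RingHom.ext fun a => (h₃ a).symm)
  have e₄ : t.appTop = CommRingCat.ofHom (algebraMap Γ(Q, ⊤) Γ(T, ⊤)) := rfl
  rw [e₁, e₂, e₃, e₄] at hp
  have := CommRingCat.isPushout_iff_isPushout.1 hp.flip
  have h := Algebra.IsPushout.out (R := Γ(Z, ⊤)) (S := Γ(Z', ⊤)) (R' := Γ(Q, ⊤)) (S' := Γ(T, ⊤))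
  convert h
  exact LinearMap.ext fun m => h₄ m

end BaseChange

/-- The linear map attached to a morphism of charts is a base change. -/
theorem exists_linear {C' C : Chart Y} (c : CHom C' C) [Algebra (fns C) (fns C')]
    [Algebra (fns C) (sections hν C')] [IsScalarTower (fns C) (fns C') (sections hν C')]
    (h : ∀ a, algebraMap (fns C) (fns C') a = mapA c a) :
    ∃ φ : sections hν C →ₗ[fns C] sections hν C', (∀ m, φ m = mapM hν c m) ∧
      IsBaseChange (fns C') φ := by
  let φ : sections hν C →ₗ[fns C] sections hν C' :=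
    { toFun := mapM hν c
      map_add' := map_add _
      map_smul' := fun a m => by
        rw [mapM_smul, RingHom.id_apply, ← h, algebraMap_smul] }
  exact ⟨φ, fun _ => rfl, isBaseChange_of_square (isPullback_totMap hν c) φ h (fun _ => rfl)
    (fun _ => rfl) (fun _ => rfl)⟩

/-- Finitely many sections over a chart are generated by finitely many sections over the base chart. -/
theorem exists_le_push {C' C : Chart Y} (c : CHom C' C)
    {H : Submodule (fns C') (sections hν C')} (hH : H.FG) :
    ∃ G : Submodule (fns C) (sections hν C), G.FG ∧ H ≤ push hν c G := by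
  let _ : Algebra (fns C) (fns C') := (mapA c).toAlgebra
  let _ : Algebra (fns C) (sections hν C') :=
    ((algebraMap (fns C') (sections hν C')).comp (mapA c)).toAlgebra
  have : IsScalarTower (fns C) (fns C') (sections hν C') :=
    IsScalarTower.of_algebraMap_eq fun _ => rfl
  obtain ⟨φ, hφ, hb⟩ := exists_linear hν c (fun _ => rfl)
  obtain ⟨G, hG, hle⟩ := exists_fg_le_spanImg hb hH
  refine ⟨G, hG, hle.trans (Submodule.span_mono ?_)⟩
  rintro _ ⟨m, hm, rfl⟩
  exact ⟨m, hm, (hφ m).symm⟩

theorem exists_le_push_family {κ : Type*} [Finite κ] {C : Chart Y} {D : κ → Chart Y}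
    (c : ∀ k, CHom (D k) C) {H : ∀ k, Submodule (fns (D k)) (sections hν (D k))}
    (hH : ∀ k, (H k).FG) :
    ∃ G : Submodule (fns C) (sections hν C), G.FG ∧ ∀ k, H k ≤ push hν (c k) G := by
  classical
  have := Fintype.ofFinite κ
  choose G hG hle using fun k => exists_le_push hν (c k) (hH k)
  exact ⟨Finset.univ.sup G, Submodule.fg_finset_sup _ G fun k _ => hG k,
    fun k => (hle k).trans (push_mono hν _ (Finset.le_sup (Finset.mem_univ k)))⟩

/-- A family of submodules compatible with morphisms of charts and flat base change. -/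
structure QSub : Type (u + 1) where
  /-- The submodules. -/
  M : ∀ C : Chart Y, Submodule (fns C) (sections hν C)
  le : ∀ {C' C : Chart Y} (d : CHom C' C), push hν d (M C) ≤ M C'
  eq : ∀ {C' C : Chart Y} (d : CHom C' C), Flat d.f.left → push hν d (M C) = M C'

/-- All sections. -/
def QSub.top : QSub hν where
  M _ := ⊤
  le _ := le_top
  eq d _ := top_le_iff.1 fun x _ => by
    obtain ⟨G, -, hG⟩ := exists_le_push hν d (Submodule.fg_span_singleton x)
    exact push_mono hν d le_top (hG (Submodule.mem_span_singleton_self x))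

/-- Finitely many sections of a subfamily come from finitely many of its sections on the base. -/
theorem exists_le_push_family_sub (M : QSub hν) {κ : Type*} [Finite κ] {C : Chart Y}
    {D : κ → Chart Y} (c : ∀ k, CHom (D k) C) (hc : ∀ k, M.M (D k) ≤ push hν (c k) (M.M C))
    {H : ∀ k, Submodule (fns (D k)) (sections hν (D k))}
    (hH : ∀ k, (H k).FG) (hle : ∀ k, H k ≤ M.M (D k)) :
    ∃ G : Submodule (fns C) (sections hν C), G.FG ∧ G ≤ M.M C ∧ ∀ k, H k ≤ push hν (c k) G := by
  classical
  have := Fintype.ofFinite κ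
  have hex : ∀ k, ∃ G : Submodule (fns C) (sections hν C), G.FG ∧ G ≤ M.M C ∧
      H k ≤ push hν (c k) G := by
    intro k
    let _ : Algebra (fns C) (fns (D k)) := (mapA (c k)).toAlgebra
    let _ : Algebra (fns C) (sections hν (D k)) :=
      ((algebraMap (fns (D k)) (sections hν (D k))).comp (mapA (c k))).toAlgebra
    have : IsScalarTower (fns C) (fns (D k)) (sections hν (D k)) :=
      IsScalarTower.of_algebraMap_eq fun _ => rfl
    obtain ⟨φ, hφ, -⟩ := exists_linear hν (c k) (fun _ => rfl)
    have himg : φ '' (M.M C : Set (sections hν C)) = mapM hν (c k) '' (M.M C : Set _) :=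
      Set.image_congr fun m _ => hφ m
    have h : H k ≤ spanImg (A' := fns (D k)) φ (M.M C) := by
      rw [spanImg, himg]
      exact (hle k).trans (hc k)
    obtain ⟨G, hGM, hG, hGH⟩ := exists_fg_sub_le_spanImg (hH k) h
    refine ⟨G, hG, hGM, hGH.trans (Submodule.span_mono ?_)⟩
    rintro _ ⟨m, hm, rfl⟩
    exact ⟨m, hm, (hφ m).symm⟩
  choose G hG hGM hle using hex
  exact ⟨Finset.univ.sup G, Submodule.fg_finset_sup _ G fun k _ => hG k,
    Finset.sup_le fun k _ => hGM k,
    fun k => (hle k).trans (push_mono hν _ (Finset.le_sup (Finset.mem_univ k)))⟩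

set_option maxHeartbeats 400000 in
/-- Sections vanishing in the quotient on an overlap vanish in the base changed quotient. -/
theorem overlap_mem {C D₁ D₂ P : Chart Y} (c₁ : CHom D₁ C) (c₂ : CHom D₂ C) (p : CHom P D₁)
    (q : CHom P D₂) (e : p.comp c₁ = q.comp c₂)
    (sq : IsPullback q.f.left p.f.left c₂.f.left c₁.f.left)
    [Algebra (fns C) (fns D₁)] [Algebra (fns C) (sections hν D₁)]
    [IsScalarTower (fns C) (fns D₁) (sections hν D₁)]
    [Algebra (fns C) (fns D₂)] [Algebra (fns C) (sections hν D₂)]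
    [IsScalarTower (fns C) (fns D₂) (sections hν D₂)]
    (h₁ : ∀ a, algebraMap (fns C) (fns D₁) a = mapA c₁ a)
    (h₂ : ∀ a, algebraMap (fns C) (fns D₂) a = mapA c₂ a)
    {φ₁ : sections hν C →ₗ[fns C] sections hν D₁} {φ₂ : sections hν C →ₗ[fns C] sections hν D₂}
    (hφ₁ : ∀ m, φ₁ m = mapM hν c₁ m) (hφ₂ : ∀ m, φ₂ m = mapM hν c₂ m)
    (hb : IsBaseChange (fns D₁) φ₁)
    (H : Submodule (fns D₂) (sections hν D₂)) {x : sections hν D₁}
    (hx : mapM hν p x ∈ push hν q H) :
    φ₂.lTensor (fns D₁) (hb.equiv.symm x) ∈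
      LinearMap.range ((H.restrictScalars (fns C)).subtype.lTensor (fns D₁)) := by
  let _ : Algebra (fns D₁) (fns P) := (mapA p).toAlgebra
  let _ : Algebra (fns C) (fns P) := (mapA (p.comp c₁)).toAlgebra
  let _ : Algebra (fns D₁) (sections hν P) :=
    ((algebraMap (fns P) (sections hν P)).comp (mapA p)).toAlgebra
  let _ : Algebra (fns C) (sections hν P) :=
    ((algebraMap (fns P) (sections hν P)).comp (mapA (p.comp c₁))).toAlgebra
  have : IsScalarTower (fns C) (fns D₁) (fns P) := IsScalarTower.of_algebraMap_eq fun a => by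
    show mapA (p.comp c₁) a = mapA p (algebraMap (fns C) (fns D₁) a)
    rw [mapA_comp, h₁]
  have : IsScalarTower (fns C) (fns D₁) (sections hν P) :=
    IsScalarTower.of_algebraMap_eq fun a => by
      show algebraMap (fns P) (sections hν P) (mapA (p.comp c₁) a) =
        algebraMap (fns P) (sections hν P) (mapA p (algebraMap (fns C) (fns D₁) a))
      rw [mapA_comp, h₁]
  let χ : fns D₂ →ₗ[fns C] fns P :=
    { toFun := mapA q
      map_add' := map_add _
      map_smul' := fun a m => by
        rw [RingHom.id_apply, Algebra.smul_def, Algebra.smul_def, map_mul, h₂, ← mapA_comp, ← e]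
        rfl }
  let ψ : sections hν D₂ →ₗ[fns C] sections hν P :=
    { toFun := mapM hν q
      map_add' := map_add _
      map_smul' := fun a m => by
        rw [RingHom.id_apply, ← algebraMap_smul (fns D₂) a m, mapM_smul, h₂, ← mapA_comp, ← e,
          Algebra.smul_def, Algebra.smul_def]
        rfl }
  have hχ : IsBaseChange (fns D₁) χ :=
    isBaseChange_of_square sq χ h₁ h₂ (fun _ => rfl) (fun _ => rfl)
  have hψ : IsBaseChange (fns D₁) ψ :=
    isBaseChange_of_square ((isPullback_totMap hν q).paste_vert sq) ψ h₁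
      (fun a => by
        rw [IsScalarTower.algebraMap_apply (fns C) (fns D₂) (sections hν D₂), h₂,
          Scheme.Hom.comp_appTop]
        rfl)
      (fun a => by rw [Scheme.Hom.comp_appTop]; rfl) (fun _ => rfl)
  let E := hψ.equiv
  have hE : ∀ a m, E (a ⊗ₜ m) = algebraMap (fns P) (sections hν P) (mapA p a) * mapM hν q m :=
    fun a m => by
      rw [hψ.equiv_tmul, Algebra.smul_def]
      rfl
  have hcomm : ∀ w, E (φ₂.lTensor (fns D₁) w) = mapM hν p (hb.equiv w) := by
    intro w
    induction w with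
    | zero => simp
    | tmul a m =>
      rw [LinearMap.lTensor_tmul, hE, hb.equiv_tmul, mapM_smul, Algebra.smul_def, hφ₁, hφ₂,
        ← mapM_comp, ← mapM_comp, e]
    | add w w' hw hw' => simp only [map_add, hw, hw']
  let K := (H.restrictScalars (fns C)).subtype.lTensor (fns D₁)
  have hgen : ∀ (a : fns P) (y : fns D₁ ⊗[fns C] (H.restrictScalars (fns C))),
      ∃ y', E (K y') = a • E (K y) := by
    intro a y
    obtain ⟨α, rfl⟩ := hχ.equiv.surjective a
    induction α with
    | zero => exact ⟨0, by rw [map_zero, map_zero, map_zero, zero_smul]⟩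
    | add α β hα hβ =>
      obtain ⟨y₁, h₁'⟩ := hα
      obtain ⟨y₂, h₂'⟩ := hβ
      exact ⟨y₁ + y₂, by rw [map_add, map_add, h₁', h₂', map_add, add_smul]⟩
    | tmul a b =>
      induction y with
      | zero => exact ⟨0, by rw [map_zero, map_zero, smul_zero]⟩
      | add y z hy hz =>
        obtain ⟨y₁, h₁'⟩ := hy
        obtain ⟨y₂, h₂'⟩ := hz
        exact ⟨y₁ + y₂, by rw [map_add, map_add, h₁', h₂', map_add, map_add, smul_add]⟩
      | tmul a' m =>
        refine ⟨(a * a') ⊗ₜ ⟨b • m.1, H.smul_mem b m.2⟩, ?_⟩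
        simp only [K]
        rw [LinearMap.lTensor_tmul, LinearMap.lTensor_tmul, hE, hE, hχ.equiv_tmul]
        show _ * mapM hν q (b • m.1) = _ • (_ * mapM hν q m.1)
        rw [Algebra.smul_def a, Algebra.smul_def (R := fns P) (A := sections hν P)]
        show algebraMap _ _ (mapA p (a * a')) * mapM hν q (b • m.1) =
          algebraMap _ _ (mapA p a * mapA q b) * (algebraMap _ _ (mapA p a') * mapM hν q m.1)
        rw [mapM_smul, Algebra.smul_def, map_mul, map_mul, map_mul]
        ring
  have hrange : ∀ z ∈ push hν q H, ∃ y, E (K y) = z := by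
    intro z hz
    induction hz using Submodule.span_induction with
    | mem z hz =>
      obtain ⟨m, hm, rfl⟩ := hz
      exact ⟨1 ⊗ₜ ⟨m, hm⟩, by
        simp only [K]
        rw [LinearMap.lTensor_tmul, hE, map_one, map_one, one_mul]
        rfl⟩
    | zero => exact ⟨0, by rw [map_zero, map_zero]⟩
    | add z w _ _ hz hw =>
      obtain ⟨y₁, rfl⟩ := hz
      obtain ⟨y₂, rfl⟩ := hw
      exact ⟨y₁ + y₂, by rw [map_add, map_add]⟩
    | smul a z _ hz =>
      obtain ⟨y, rfl⟩ := hz
      exact hgen a y
  obtain ⟨y, hy⟩ := hrange _ hx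
  refine ⟨y, E.injective ?_⟩
  rw [hy, hcomm, LinearEquiv.apply_symm_apply]

/-- Submodules agreeing on overlaps of flat charts come from one on the base chart. -/
theorem exists_descend_sub (M : QSub hν) {κ : Type*} [Finite κ] {C : Chart Y} {D : κ → Chart Y}
    (c : ∀ k, CHom (D k) C) (hc : ∀ k, Flat (c k).f.left)
    {H : ∀ k, Submodule (fns (D k)) (sections hν (D k))} (hH : ∀ k, (H k).FG)
    (hcomp : ∀ (i k : κ) (P : Chart Y) (p : CHom P (D i)) (q : CHom P (D k)),
      p.comp (c i) = q.comp (c k) → push hν p (H i) = push hν q (H k))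
    (hM : ∀ k, H k ≤ M.M (D k)) :
    ∃ G : Submodule (fns C) (sections hν C), G.FG ∧ G ≤ M.M C ∧ ∀ k, push hν (c k) G = H k := by
  classical
  have := Fintype.ofFinite κ
  let _ : ∀ k, Algebra (fns C) (fns (D k)) := fun k => (mapA (c k)).toAlgebra
  let _ : ∀ k, Algebra (fns C) (sections hν (D k)) := fun k =>
    ((algebraMap (fns (D k)) (sections hν (D k))).comp (mapA (c k))).toAlgebra
  have : ∀ k, IsScalarTower (fns C) (fns (D k)) (sections hν (D k)) := fun k =>
    IsScalarTower.of_algebraMap_eq fun _ => rfl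
  choose φ hφ hb using fun k => exists_linear hν (c k) (fun _ => rfl)
  have : ∀ k, Module.Flat (fns C) (fns (D k)) := fun k =>
    have := hc k
    (c k).f.left.flat_appTop
  let Hr : ∀ k, Submodule (fns C) (sections hν (D k)) := fun k => (H k).restrictScalars (fns C)
  let N : Submodule (fns C) (sections hν C) := ⨅ k, (Hr k).comap (φ k)
  have hN : ∀ i, H i ≤ spanImg (A' := fns (D i)) (φ i) (N ⊓ M.M C) := by
    intro i x hx
    refine mem_spanImg_inf (hb i) (mem_spanImg_of_forall (hb i) φ Hr fun k => ?_) ?_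
    swap
    · have himg : φ i '' (M.M C : Set (sections hν C)) = mapM hν (c i) '' (M.M C : Set _) :=
        Set.image_congr fun m _ => hφ i m
      rw [spanImg, himg]
      exact (M.eq (c i) (hc i)).ge (hM i hx)
    · skip
      let Po : Over S := Over.mk (pullback.fst (c i).f.left (c k).f.left ≫ (D i).Z.hom)
      let pf : Po ⟶ (D i).Z := Over.homMk (pullback.fst _ _) rfl
      let qf : Po ⟶ (D k).Z := Over.homMk (pullback.snd (c i).f.left (c k).f.left) (by
        show pullback.snd _ _ ≫ (D k).Z.hom = pullback.fst _ _ ≫ (D i).Z.hom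
        rw [← Over.w (c k).f, ← Over.w (c i).f, ← Category.assoc, ← pullback.condition,
          Category.assoc])
      let P : Chart Y := ⟨Po, inferInstanceAs (IsAffine (pullback (c i).f.left (c k).f.left)),
        (yon S).map pf ≫ (D i).b⟩
      have hpq : pf ≫ (c i).f = qf ≫ (c k).f := Over.OverMorphism.ext pullback.condition
      let p : CHom P (D i) := ⟨pf, rfl⟩
      let q : CHom P (D k) := ⟨qf, by
        show _ = (yon S).map pf ≫ (D i).b
        rw [← (c i).w, ← (c k).w, ← Category.assoc, ← Category.assoc, ← Functor.map_comp,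
          ← Functor.map_comp, hpq]⟩
      have hpq' : p.comp (c i) = q.comp (c k) := CHom.ext hpq
      exact overlap_mem hν (c i) (c k) p q hpq'
        (IsPullback.of_hasPullback (c i).f.left (c k).f.left).flip (fun _ => rfl) (fun _ => rfl)
        (hφ i) (hφ k) (hb i) (H k) (hcomp i k P p q hpq' ▸ mem_push hν p hx)
  choose G hGN hG hle using fun i => exists_fg_sub_le_spanImg (hH i) (hN i)
  refine ⟨Finset.univ.sup G, Submodule.fg_finset_sup _ G fun k _ => hG k, fun m hm => ?_, fun k =>
    le_antisymm ((push_le_iff hν _).2 fun m hm => ?_) ((hle k).trans ?_)⟩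
  · exact (Finset.sup_le (fun i _ => hGN i) hm).2
  · have hmem := Finset.sup_le (fun i _ => hGN i) hm
    rw [← hφ k]
    exact Submodule.mem_comap.1 ((Submodule.mem_iInf _).1 hmem.1 k)
  · refine Submodule.span_mono ?_
    rintro _ ⟨m, hm, rfl⟩
    exact ⟨m, (Finset.le_sup (f := G) (Finset.mem_univ k)) hm, (hφ k m).symm⟩

/-- Submodules agreeing on overlaps of flat charts come from one on the base chart. -/
theorem exists_descend {κ : Type*} [Finite κ] {C : Chart Y} {D : κ → Chart Y}
    (c : ∀ k, CHom (D k) C) (hc : ∀ k, Flat (c k).f.left)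
    {H : ∀ k, Submodule (fns (D k)) (sections hν (D k))} (hH : ∀ k, (H k).FG)
    (hcomp : ∀ (i k : κ) (P : Chart Y) (p : CHom P (D i)) (q : CHom P (D k)),
      p.comp (c i) = q.comp (c k) → push hν p (H i) = push hν q (H k)) :
    ∃ G : Submodule (fns C) (sections hν C), G.FG ∧ ∀ k, push hν (c k) G = H k := by
  obtain ⟨G, h, -, h'⟩ := exists_descend_sub hν (QSub.top hν) c hc hH hcomp fun _ => le_top
  exact ⟨G, h, h'⟩

theorem exists_map_ne_top {C' C : Chart Y} (c : CHom C' C) (p : Ideal (fns C)) [p.IsPrime]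
    (h : C.Z.left.isoSpec.inv ⟨p, inferInstance⟩ ∈ Set.range c.f.left) :
    p.map (mapA c) ≠ ⊤ := by
  obtain ⟨z, hz⟩ := h
  have e : (Spec.map c.f.left.appTop) (C'.Z.left.isoSpec.hom z) = ⟨p, inferInstance⟩ := by
    rw [← Scheme.Hom.comp_apply, Scheme.isoSpec_hom_naturality, Scheme.Hom.comp_apply, hz,
      ← Scheme.Hom.comp_apply, Iso.inv_hom_id]
    rfl
  refine fun htop => (C'.Z.left.isoSpec.hom z).isPrime.ne_top (top_le_iff.1 (htop ▸ ?_))
  rw [Ideal.map_le_iff_le_comap]
  exact (congrArg PrimeSpectrum.asIdeal e).ge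

/-- Inclusion of submodules is local for jointly surjective flat charts. -/
theorem le_of_local {κ : Type*} [Finite κ] {C : Chart Y} {D : κ → Chart Y}
    (c : ∀ k, CHom (D k) C) (hc : ∀ k, Flat (c k).f.left)
    (hs : ∀ z : ↥C.Z.left, ∃ k, z ∈ Set.range (c k).f.left)
    {H H' : Submodule (fns C) (sections hν C)}
    (h : ∀ k, push hν (c k) H ≤ push hν (c k) H') : H ≤ H' := by
  let _ : ∀ k, Algebra (fns C) (fns (D k)) := fun k => (mapA (c k)).toAlgebra
  let _ : ∀ k, Algebra (fns C) (sections hν (D k)) := fun k =>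
    ((algebraMap (fns (D k)) (sections hν (D k))).comp (mapA (c k))).toAlgebra
  have : ∀ k, IsScalarTower (fns C) (fns (D k)) (sections hν (D k)) := fun k =>
    IsScalarTower.of_algebraMap_eq fun _ => rfl
  choose φ hφ hb using fun k => exists_linear hν (c k) (fun _ => rfl)
  have : ∀ k, Module.Flat (fns C) (fns (D k)) := fun k =>
    have := hc k
    (c k).f.left.flat_appTop
  intro x hx
  refine mem_of_forall_spanImg φ hb (fun p hp => ?_) H' fun k => ?_
  · obtain ⟨k, hk⟩ := hs (C.Z.left.isoSpec.inv ⟨p, hp⟩)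
    exact ⟨k, exists_map_ne_top (c k) p hk⟩
  · rw [hφ]
    refine Submodule.span_mono ?_ (h k (mem_push hν (c k) hx))
    rintro _ ⟨m, hm, rfl⟩
    exact ⟨m, hm, hφ k m⟩

/-- On an empty chart there is only one submodule. -/
theorem le_of_isEmpty {C : Chart Y} [IsEmpty ↥C.Z.left]
    (H H' : Submodule (fns C) (sections hν C)) : H ≤ H' :=
  le_of_local hν (κ := PEmpty.{1}) (D := fun k => k.elim) (fun k => k.elim) (fun k => k.elim)
    (fun z => isEmptyElim z) (fun k => k.elim)

end

end Groth.AlgSp2.QcAffine
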