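import Groth.Agent.AlgSp2.QcAffine.Chart
import Groth.Agent.AlgSpBasic.Filtration
import Groth.Agent.AlgSpBasic.FiltrationQS

/-!
# Finitely many sections of an affine morphism lie in a finitely generated stable submodule
-/

set_option autoImplicit false
set_option linter.unusedSectionVars false
set_option backward.isDefEq.respectTransparency.types false
universe u

open CategoryTheory CategoryTheory.Limits AlgebraicGeometry Opposite AlgSp Topology

namespace Groth.AlgSp2.QcAffine

noncomputable section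

variable {S : Scheme.{u}} {Y : Sp S}

/-- The inclusion of an open as a scheme over the base. -/
def subι {Q : Over S} (W : Q.left.Opens) : Over.mk (W.ι ≫ Q.hom) ⟶ Q := Over.homMk W.ι rfl

instance {Q : Over S} (W : Q.left.Opens) : IsOpenImmersion (subι W).left :=
  inferInstanceAs (IsOpenImmersion W.ι)

/-- The chart given by an affine open of a scheme over the space. -/
def sub {Q : Over S} (g : (yon S).obj Q ⟶ Y) (W : Q.left.Opens) (hW : IsAffineOpen W) : Chart Y :=
  ⟨Over.mk (W.ι ≫ Q.hom), hW, (yon S).map (subι W) ≫ g⟩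

/-- The morphism of charts induced on an affine open. -/
def subTo {Q : Over S} {g : (yon S).obj Q ⟶ Y} (W : Q.left.Opens) (hW : IsAffineOpen W)
    {C : Chart Y} (k : Q ⟶ C.Z) (hk : (yon S).map k ≫ C.b = g) : CHom (sub g W hW) C :=
  ⟨subι W ≫ k, by rw [Functor.map_comp, Category.assoc, hk]; rfl⟩

theorem exists_sub_lift {Q : Over S} {g : (yon S).obj Q ⟶ Y} (W : Q.left.Opens) (hW : IsAffineOpen W)
    {E : Chart Y} (l : E.Z ⟶ Q) (hl : (yon S).map l ≫ g = E.b) (hr : ∀ x, l.left x ∈ W) :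
    ∃ e : CHom E (sub g W hW), e.f ≫ subι W = l := by
  have hr' : Set.range l.left ⊆ Set.range W.ι := by
    rw [Scheme.Opens.range_ι]
    rintro _ ⟨x, rfl⟩
    exact hr x
  let e : E.Z ⟶ Over.mk (W.ι ≫ Q.hom) := Over.homMk (IsOpenImmersion.lift W.ι l.left hr') (by
    show _ ≫ W.ι ≫ Q.hom = _
    rw [IsOpenImmersion.lift_fac_assoc, Over.w l])
  have he : e ≫ subι W = l := Over.OverMorphism.ext (IsOpenImmersion.lift_fac _ _ _)
  exact ⟨⟨e, by
    show (yon S).map e ≫ (yon S).map (subι W) ≫ g = E.b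
    rw [← Category.assoc, ← Functor.map_comp, he, hl]⟩, he⟩

theorem ofPt_chart {E C : Chart Y} (e : CHom E C) (x : ↥E.Z.left) :
    AlgSp.Points.ofPt E.b x = AlgSp.Points.ofPt C.b (e.f.left x) := by
  rw [← Groth.AlgSpBasic.ofPt_comp_yon, e.w]

/-- An affine neighbourhood in a chart. -/
theorem exists_nbhd (C : Chart Y) (z : ↥C.Z.left) {W : Set ↥C.Z.left} (hW : IsOpen W) (hz : z ∈ W) :
    ∃ (E : Chart Y) (e : CHom E C), IsOpenImmersion e.f.left ∧ z ∈ Set.range e.f.left ∧
      ∀ x, e.f.left x ∈ W := by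
  obtain ⟨V, hV, hzV, hVW⟩ := exists_isAffineOpen_mem_and_subset (U := ⟨W, hW⟩) hz
  refine ⟨sub C.b V hV, subTo V hV (𝟙 _) (by rw [CategoryTheory.Functor.map_id, Category.id_comp]),
    ?_, ?_, fun x => ?_⟩
  · show IsOpenImmersion ((subι V ≫ 𝟙 C.Z).left)
    rw [Category.comp_id]
    infer_instance
  · exact ⟨⟨z, hzV⟩, rfl⟩
  · exact hVW x.2

variable {N : Sp S} {ν : N ⟶ Y} (hν : IsAffineMor ν)

/-- Finitely many etale pieces suffice. -/
theorem eq_of_cover {C : Chart Y} {G H : Submodule (fns C) (sections hν C)}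
    (h : ∀ z : ↥C.Z.left, ∃ (E : Chart Y) (e : CHom E C),
      Etale e.f.left ∧ z ∈ Set.range e.f.left ∧ push hν e G = push hν e H) : G = H := by
  choose E e he hz heq using h
  obtain ⟨t, ht⟩ := isCompact_univ.elim_finite_subcover (fun z => Set.range (e z).f.left)
    (fun z => (Groth.AlgSpBasic.etale_isOpenMap (e z).f.left (he z)).isOpen_range)
    (fun z _ => Set.mem_iUnion.2 ⟨z, hz z⟩)
  have hc : ∀ k : t, Flat (e k.1).f.left := fun k => have := he k.1; inferInstance
  have hs : ∀ x : ↥C.Z.left, ∃ k : t, x ∈ Set.range (e k.1).f.left := fun x => by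
    obtain ⟨k, hk, hx⟩ := Set.mem_iUnion₂.1 (ht (Set.mem_univ x))
    exact ⟨⟨k, hk⟩, hx⟩
  exact le_antisymm (le_of_local hν (fun k : t => e k.1) hc hs fun k => (heq k.1).le)
    (le_of_local hν (fun k : t => e k.1) hc hs fun k => (heq k.1).ge)

variable (U : Chart Y)

/-- All points of the chart are in the set. -/
def InSet (O : Set (AlgSp.Points Y)) (C : Chart Y) : Prop := ∀ z, AlgSp.Points.ofPt C.b z ∈ O

theorem InSet.of_hom {O : Set (AlgSp.Points Y)} {E C : Chart Y} (e : CHom E C) (h : InSet O C) :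
    InSet O E := fun x => ofPt_chart e x ▸ h _

/-- The submodule is stable over the set. -/
def StableOn (O : Set (AlgSp.Points Y)) (G : Submodule (fns U) (sections hν U)) : Prop :=
  ∀ C : Chart Y, InSet O C → ∀ c₁ c₂ : CHom C U, push hν c₁ G = push hν c₂ G

variable (M : QSub hν)

/-- Stable submodules exist over the set, which is open with compact inverse image. -/
def Good (O : Set (AlgSp.Points Y)) : Prop :=
  IsOpen O ∧ IsCompact (AlgSp.Points.ofPt U.b ⁻¹' O) ∧
    ∀ G : Submodule (fns U) (sections hν U), G.FG → G ≤ M.M U →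
      ∃ G', G'.FG ∧ G ≤ G' ∧ G' ≤ M.M U ∧ StableOn hν U O G'

theorem good_empty : Good hν U M ∅ :=
  ⟨isOpen_empty, by rw [Set.preimage_empty]; exact isCompact_empty, fun G hG hGM => ⟨G, hG, le_rfl, hGM,
    fun C hC c₁ c₂ => by
      have : IsEmpty ↥C.Z.left := ⟨fun z => hC z⟩
      exact le_antisymm (le_of_isEmpty hν _ _) (le_of_isEmpty hν _ _)⟩⟩

/-- Finitely many affine opens cover a compact subset. -/
theorem exists_affine_family {T : Scheme.{u}} {K : Set T} (hK : IsCompact K) {W : Set T}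
    (hW : IsOpen W) (hKW : K ⊆ W) :
    ∃ (n : ℕ) (V : Fin n → T.Opens), (∀ i, IsAffineOpen (V i) ∧ (V i : Set T) ⊆ W) ∧
      K ⊆ ⋃ i, (V i : Set T) := by
  choose V hV hxV hVW using fun x : K =>
    exists_isAffineOpen_mem_and_subset (U := (⟨W, hW⟩ : T.Opens)) (hKW x.2)
  obtain ⟨t, ht⟩ := hK.elim_finite_subcover (fun x => (V x : Set T)) (fun x => (V x).isOpen)
    fun x hx => Set.mem_iUnion.2 ⟨⟨x, hx⟩, hxV _⟩
  refine ⟨t.card, fun i => V (t.equivFin.symm i).1, fun i => ⟨hV _, hVW _⟩, fun x hx => ?_⟩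
  obtain ⟨k, hk, hx'⟩ := Set.mem_iUnion₂.1 (ht hx)
  refine Set.mem_iUnion.2 ⟨t.equivFin ⟨k, hk⟩, ?_⟩
  simp only [Equiv.symm_apply_apply]
  exact hx'

variable (hY : IsAlgSpace Y) (hU : RepWith @Etale U.b)
  (hUs : ∀ y, ∃ z, AlgSp.Points.ofPt U.b z = y) (hUq : RepWith @QuasiCompact U.b)

include hY hU hUs hUq in
/-- The inductive step over an etale chart injective outside the set. -/
theorem good_step {O : Set (AlgSp.Points Y)} (hO : Good hν U M O) (V : Chart Y)
    (hV : RepWith @Etale V.b)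
    (hinj : ∀ {T : Over S} (x y : T ⟶ V.Z), (yon S).map x ≫ V.b = (yon S).map y ≫ V.b →
      (∀ t, AlgSp.Points.ofPt ((yon S).map x ≫ V.b) t ∉ O) → x = y) :
    Good hν U M (O ∪ Set.range (AlgSp.Points.ofPt V.b)) := by
  classical
  obtain ⟨hOo, hOc, hIH⟩ := hO
  obtain ⟨Q, qu, qw, sqQ⟩ := Groth.AlgSpBasic.exists_pullback_of_diag hY.diag U.b V.b
  let gQ : (yon S).obj Q ⟶ Y := (yon S).map qw ≫ V.b
  have hgu : (yon S).map qu ≫ U.b = gQ := sqQ.w
  have : Etale qu.left := Groth.AlgSpBasic.repWith_fst_of_isPullback sqQ.flip hV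
  have : Etale qw.left := Groth.AlgSpBasic.repWith_fst_of_isPullback sqQ hU
  have : QuasiCompact qw.left := Groth.AlgSpBasic.repWith_fst_of_isPullback sqQ hUq
  have : CompactSpace ↥Q.left := QuasiCompact.compactSpace_of_compactSpace qw.left
  refine ⟨hOo.union (Groth.AlgSpBasic.isOpenMap_ofPt_of_etale hV).isOpen_range, ?_, fun G hG hGM => ?_⟩
  · rw [Set.preimage_union]
    refine hOc.union ?_
    have : AlgSp.Points.ofPt U.b ⁻¹' Set.range (AlgSp.Points.ofPt V.b) = Set.range qu.left := by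
      ext z
      constructor
      · rintro ⟨v, hv⟩
        obtain ⟨m, hm, -⟩ := (Groth.AlgSpBasic.ofPt_eq_ofPt_iff sqQ z v).1 hv.symm
        exact ⟨m, hm⟩
      · rintro ⟨m, rfl⟩
        exact ⟨qw.left m, by
          rw [← Groth.AlgSpBasic.ofPt_comp_yon, ← Groth.AlgSpBasic.ofPt_comp_yon, hgu]⟩
    rw [this]
    exact isCompact_range qu.left.continuous
  obtain ⟨nQ, WQ, hWQ, hWQc⟩ := exists_affine_family (isCompact_univ (X := ↥Q.left)) isOpen_univ
    subset_rfl
  let D : Fin nQ → Chart Y := fun k => sub gQ (WQ k) (hWQ k).1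
  let du : ∀ k, CHom (D k) U := fun k => subTo _ _ qu hgu
  let dw : ∀ k, CHom (D k) V := fun k => subTo _ _ qw rfl
  -- the part over the set
  have hQc : IsCompact (qu.left ⁻¹' (AlgSp.Points.ofPt U.b ⁻¹' O)) := by
    have : QuasiSeparatedSpace ↥U.Z.left := inferInstance
    have hh : ∀ k, IsCompact ((subι (WQ k) ≫ qu).left ⁻¹' (AlgSp.Points.ofPt U.b ⁻¹' O)) := by
      intro k
      have : IsAffine (Over.mk ((WQ k).ι ≫ Q.hom)).left := (hWQ k).1
      exact QuasiCompact.isCompact_preimage (f := (subι (WQ k) ≫ qu).left) _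
        (hOo.preimage (AlgSp.Points.continuous_ofPt _)) hOc
    have e : qu.left ⁻¹' (AlgSp.Points.ofPt U.b ⁻¹' O) = ⋃ k, (subι (WQ k)).left ''
        ((subι (WQ k) ≫ qu).left ⁻¹' (AlgSp.Points.ofPt U.b ⁻¹' O)) := by
      ext x
      constructor
      · intro hx
        obtain ⟨k, hk⟩ := Set.mem_iUnion.1 (hWQc (Set.mem_univ x))
        exact Set.mem_iUnion.2 ⟨k, ⟨x, hk⟩, hx, rfl⟩
      · intro hx
        obtain ⟨k, y, hy, rfl⟩ := Set.mem_iUnion.1 hx
        exact hy
    rw [e]
    exact isCompact_iUnion fun k => (hh k).image (subι (WQ k)).left.continuous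
  obtain ⟨n', W', hW', hW'c⟩ := exists_affine_family hQc
    ((hOo.preimage (AlgSp.Points.continuous_ofPt _)).preimage qu.left.continuous) subset_rfl
  let D' : Fin n' → Chart Y := fun k => sub gQ (W' k) (hW' k).1
  let du' : ∀ k, CHom (D' k) U := fun k => subTo _ _ qu hgu
  let dw' : ∀ k, CHom (D' k) V := fun k => subTo _ _ qw rfl
  have hD' : ∀ k, InSet O (D' k) := fun k x => by
    rw [ofPt_chart (du' k) x]
    exact (hW' k).2 x.2
  obtain ⟨H, hHfg, hHM, hH⟩ := exists_le_push_family_sub hν M dw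
    (fun k => by
      have : Etale (dw k).f.left := inferInstanceAs (Etale ((subι (WQ k)).left ≫ qw.left))
      exact (M.eq _ inferInstance).ge)
    (fun k => push_fg hν (du k) hG) fun k => (push_mono hν _ hGM).trans (M.le (du k))
  obtain ⟨G₁, hG₁fg, hG₁M, hG₁⟩ := exists_le_push_family_sub hν M du
    (fun k => by
      have : Etale (du k).f.left := inferInstanceAs (Etale ((subι (WQ k)).left ≫ qu.left))
      exact (M.eq _ inferInstance).ge)
    (fun k => push_fg hν (dw k) hHfg) fun k => (push_mono hν _ hHM).trans (M.le (dw k))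
  obtain ⟨G₂, hG₂fg, hG₂, hG₂M, hst⟩ := hIH (G ⊔ G₁) (hG.sup hG₁fg) (sup_le hGM hG₁M)
  obtain ⟨H', hH'fg, hH'M, hH'⟩ := exists_descend_sub hν M dw'
    (fun k => by
      have : Etale (dw' k).f.left := inferInstanceAs (Etale ((subι (W' k)).left ≫ qw.left))
      infer_instance)
    (fun k => push_fg hν (du' k) hG₂fg) (fun i k P p q _ => by
      rw [← push_comp, ← push_comp]
      exact hst P ((hD' i).of_hom p) _ _)
    fun k => (push_mono hν _ hG₂M).trans (M.le (du' k))
  let H₂ := H' ⊔ H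
  have hH₂fg : H₂.FG := hH'fg.sup hHfg
  have hH₂ : ∀ j, push hν (dw' j) H₂ = push hν (du' j) G₂ := by
    intro j
    rw [push_sup, hH', sup_eq_left]
    -- sections of `H` come from `G₁`
    have key : push hν (dw' j) H ≤ push hν (du' j) G₁ := by
      have hk : ∀ z : ↥(D' j).Z.left, ∃ (k : Fin nQ) (E : Chart Y) (e : CHom E (D' j)),
          IsOpenImmersion e.f.left ∧ z ∈ Set.range e.f.left ∧ push hν e (push hν (dw' j) H) ≤
            push hν e (push hν (du' j) G₁) := by
        intro z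
        obtain ⟨k, hk⟩ := Set.mem_iUnion.1 (hWQc (Set.mem_univ ((subι (W' j)).left z)))
        obtain ⟨E, e, he, hze, heW⟩ := exists_nbhd (D' j) z
          ((WQ k).isOpen.preimage (subι (W' j)).left.continuous) hk
        obtain ⟨n, hn⟩ := exists_sub_lift (g := gQ) (WQ k) (hWQ k).1 (e.f ≫ subι (W' j)) (by
          show _ = E.b
          rw [← e.w, Functor.map_comp, Category.assoc]; rfl) heW
        have h₁ : e.comp (dw' j) = n.comp (dw k) := CHom.ext (by
          show e.f ≫ subι (W' j) ≫ qw = n.f ≫ subι (WQ k) ≫ qw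
          rw [reassoc_of% hn])
        have h₂ : e.comp (du' j) = n.comp (du k) := CHom.ext (by
          show e.f ≫ subι (W' j) ≫ qu = n.f ≫ subι (WQ k) ≫ qu
          rw [reassoc_of% hn])
        refine ⟨k, E, e, he, hze, ?_⟩
        rw [← push_comp, ← push_comp, h₁, h₂, push_comp, push_comp]
        exact push_mono hν n (hG₁ k)
      choose kk EE ee hei hez hel using hk
      obtain ⟨t, ht⟩ := isCompact_univ.elim_finite_subcover (fun z => Set.range (ee z).f.left)
        (fun z => (hei z).base_open.isOpen_range) (fun z _ => Set.mem_iUnion.2 ⟨z, hez z⟩)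
      refine le_of_local hν (fun k : t => ee k.1) (fun k => have := hei k.1; inferInstance)
        (fun x => ?_) fun k => hel k.1
      obtain ⟨k, hk, hx⟩ := Set.mem_iUnion₂.1 (ht (Set.mem_univ x))
      exact ⟨⟨k, hk⟩, hx⟩
    exact key.trans (push_mono hν _ (le_sup_right.trans hG₂))
  -- agreement over the set
  have keyA : ∀ C : Chart Y, InSet O C → ∀ (c : CHom C U) (d : CHom C V),
      push hν c G₂ = push hν d H₂ := by
    intro C hC c d
    obtain ⟨l, hl⟩ := (yon S).map_surjective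
      (sqQ.lift ((yon S).map c.f) ((yon S).map d.f) (c.w.trans d.w.symm))
    have hl₁ : l ≫ qu = c.f := (yon S).map_injective (by rw [Functor.map_comp, hl, sqQ.lift_fst])
    have hl₂ : l ≫ qw = d.f := (yon S).map_injective (by rw [Functor.map_comp, hl, sqQ.lift_snd])
    refine eq_of_cover hν fun z => ?_
    have hz : l.left z ∈ qu.left ⁻¹' (AlgSp.Points.ofPt U.b ⁻¹' O) := by
      show AlgSp.Points.ofPt U.b ((l ≫ qu).left z) ∈ O
      rw [hl₁, ← ofPt_chart c]
      exact hC z
    obtain ⟨j, hj⟩ := Set.mem_iUnion.1 (hW'c hz)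
    obtain ⟨E, e, he, hze, heW⟩ := exists_nbhd C z
      ((W' j).isOpen.preimage l.left.continuous) hj
    obtain ⟨m, hm⟩ := exists_sub_lift (g := gQ) (W' j) (hW' j).1 (e.f ≫ l) (by
      show _ ≫ (yon S).map qw ≫ V.b = _
      rw [← Category.assoc, ← Functor.map_comp, Category.assoc, hl₂, Functor.map_comp,
        Category.assoc, d.w, e.w]) heW
    have h₁ : e.comp c = m.comp (du' j) := CHom.ext (by
      show e.f ≫ c.f = m.f ≫ subι (W' j) ≫ qu
      rw [← hl₁, reassoc_of% hm])
    have h₂ : e.comp d = m.comp (dw' j) := CHom.ext (by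
      show e.f ≫ d.f = m.f ≫ subι (W' j) ≫ qw
      rw [← hl₂, reassoc_of% hm])
    refine ⟨E, e, inferInstance, hze, ?_⟩
    rw [← push_comp, ← push_comp, h₁, h₂, push_comp, push_comp, hH₂]
  -- stability of the sections on the chart
  have keyB : ∀ (C : Chart Y) (d₁ d₂ : CHom C V), push hν d₁ H₂ = push hν d₂ H₂ := by
    intro C d₁ d₂
    obtain ⟨P, p₁, p₂, sqP⟩ := Groth.AlgSpBasic.exists_pullback_of_diag hY.diag C.b U.b
    have : Etale p₁.left := Groth.AlgSpBasic.repWith_fst_of_isPullback sqP.flip hU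
    obtain ⟨K, m₁, m₂, sqK⟩ := Groth.AlgSpBasic.exists_pullback_of_diag hY.diag V.b V.b
    have : Etale m₁.left := Groth.AlgSpBasic.repWith_fst_of_isPullback sqK.flip hV
    obtain ⟨Δ, hΔ⟩ := (yon S).map_surjective (sqK.lift (𝟙 _) (𝟙 _) rfl)
    have hΔ₁ : Δ ≫ m₁ = 𝟙 _ := (yon S).map_injective (by
      rw [Functor.map_comp, hΔ, sqK.lift_fst, CategoryTheory.Functor.map_id])
    have hΔ₂ : Δ ≫ m₂ = 𝟙 _ := (yon S).map_injective (by
      rw [Functor.map_comp, hΔ, sqK.lift_snd, CategoryTheory.Functor.map_id])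
    have hΔi : IsIso (Δ.left ≫ m₁.left) := by rw [← Over.comp_left, hΔ₁]; infer_instance
    have : Mono Δ.left := mono_of_mono Δ.left m₁.left
    have : Etale Δ.left := MorphismProperty.of_postcomp (W' := @Etale) (W := @Etale) Δ.left m₁.left
      inferInstance inferInstance
    have : IsOpenImmersion Δ.left := IsOpenImmersion.of_flat_of_mono Δ.left
    obtain ⟨l, hl⟩ := (yon S).map_surjective
      (sqK.lift ((yon S).map d₁.f) ((yon S).map d₂.f) (d₁.w.trans d₂.w.symm))
    have hl₁ : l ≫ m₁ = d₁.f := (yon S).map_injective (by rw [Functor.map_comp, hl, sqK.lift_fst])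
    have hl₂ : l ≫ m₂ = d₂.f := (yon S).map_injective (by rw [Functor.map_comp, hl, sqK.lift_snd])
    refine eq_of_cover hν fun z => ?_
    by_cases hz : AlgSp.Points.ofPt C.b z ∈ O
    · obtain ⟨u₀, hu₀⟩ := hUs (AlgSp.Points.ofPt C.b z)
      obtain ⟨m, hm₁, hm₂⟩ := (Groth.AlgSpBasic.ofPt_eq_ofPt_iff sqP z u₀).1 hu₀.symm
      have hopen : IsOpen (p₁.left ⁻¹' (AlgSp.Points.ofPt C.b ⁻¹' O)) :=
        (hOo.preimage (AlgSp.Points.continuous_ofPt _)).preimage p₁.left.continuous
      obtain ⟨W, hW, hmW, hWO⟩ := exists_isAffineOpen_mem_and_subset (U := ⟨_, hopen⟩)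
        (show m ∈ p₁.left ⁻¹' (AlgSp.Points.ofPt C.b ⁻¹' O) from show AlgSp.Points.ofPt C.b (p₁.left m) ∈ O by
          rwa [hm₁])
      let E := sub ((yon S).map p₁ ≫ C.b) W hW
      let e : CHom E C := subTo W hW p₁ rfl
      let c : CHom E U := subTo W hW p₂ sqP.w.symm
      have hE : InSet O E := fun x => by
        rw [ofPt_chart e x]
        exact hWO x.2
      refine ⟨E, e, inferInstanceAs (Etale ((subι W).left ≫ p₁.left)), ⟨⟨m, hmW⟩, hm₁⟩, ?_⟩
      rw [← push_comp, ← push_comp, ← keyA E hE c, ← keyA E hE c]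
    · let x := Groth.AlgSpBasic.resPt z
      have hxy : x ≫ d₁.f = x ≫ d₂.f := hinj _ _
        (by rw [Functor.map_comp, Functor.map_comp, Category.assoc, Category.assoc, d₁.w, d₂.w])
        fun t => by
          rw [Functor.map_comp, Category.assoc, d₁.w, Groth.AlgSpBasic.ofPt_comp_yon]
          rw [show x.left t = z from Scheme.fromSpecResidueField_apply _ _]
          exact hz
      have hlz : x ≫ l = (x ≫ d₁.f) ≫ Δ := (yon S).map_injective (by
        apply sqK.hom_ext
        · rw [← Functor.map_comp, ← Functor.map_comp, Category.assoc, hl₁, Category.assoc _ Δ, hΔ₁,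
            Category.comp_id]
        · rw [← Functor.map_comp, ← Functor.map_comp, Category.assoc, hl₂, Category.assoc _ Δ, hΔ₂,
            Category.comp_id, hxy])
      have hzr : l.left z ∈ Set.range Δ.left :=
        ⟨(x ≫ d₁.f).left (IsLocalRing.closedPoint _), by
          rw [← Scheme.Hom.comp_apply, ← Over.comp_left, ← hlz, Over.comp_left,
            Scheme.Hom.comp_apply]
          exact congrArg l.left (Scheme.fromSpecResidueField_apply _ _)⟩
      obtain ⟨E, e, he, hze, heW⟩ := exists_nbhd C z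
        (Δ.left.isOpenEmbedding.isOpen_range.preimage l.left.continuous) hzr
      have hr : Set.range (e.f ≫ l).left ⊆ Set.range Δ.left := by
        rintro _ ⟨w, rfl⟩
        exact heW w
      let k : E.Z ⟶ V.Z := Over.homMk (IsOpenImmersion.lift Δ.left (e.f ≫ l).left hr) (by
        rw [← Over.w Δ, IsOpenImmersion.lift_fac_assoc, Over.w])
      have hk : k ≫ Δ = e.f ≫ l := Over.OverMorphism.ext (IsOpenImmersion.lift_fac _ _ _)
      have h12 : e.comp d₁ = e.comp d₂ := CHom.ext (by
        show e.f ≫ d₁.f = e.f ≫ d₂.f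
        rw [← hl₁, ← hl₂, ← reassoc_of% hk, ← reassoc_of% hk, hΔ₁, hΔ₂])
      exact ⟨E, e, inferInstance, hze, by rw [← push_comp, ← push_comp, h12]⟩
  -- descend to the atlas
  obtain ⟨nU, WU, hWU, hWUc⟩ := exists_affine_family hOc
    (hOo.preimage (AlgSp.Points.continuous_ofPt _)) subset_rfl
  let DU : Fin nU → Chart Y := fun l => sub U.b (WU l) (hWU l).1
  let dι : ∀ l, CHom (DU l) U := fun l => subTo _ _ (𝟙 _)
    (by rw [CategoryTheory.Functor.map_id, Category.id_comp])
  have hDU : ∀ l, InSet O (DU l) := fun l x => (ofPt_chart (dι l) x).symm ▸ by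
    show AlgSp.Points.ofPt U.b ((subι (WU l) ≫ 𝟙 U.Z).left x) ∈ O
    rw [Category.comp_id]
    exact (hWU l).2 x.2
  let DD : Fin nQ ⊕ Fin nU → Chart Y := Sum.elim D DU
  let cc : ∀ k, CHom (DD k) U := fun k => match k with
    | .inl k => du k
    | .inr l => dι l
  let HH : ∀ k, Submodule (fns (DD k)) (sections hν (DD k)) := fun k => match k with
    | .inl k => push hν (dw k) H₂
    | .inr l => push hν (dι l) G₂
  obtain ⟨G₃', hG₃'fg, hG₃'M, hG₃'⟩ := exists_descend_sub hν M cc
    (fun k => by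
      rcases k with k | l
      · have : Etale (cc (.inl k)).f.left := inferInstanceAs (Etale ((subι (WQ k)).left ≫ qu.left))
        infer_instance
      · have : Etale (cc (.inr l)).f.left := inferInstanceAs (Etale ((subι (WU l)).left ≫ 𝟙 _))
        infer_instance)
    (H := HH) (fun k => by
      rcases k with k | l
      · exact push_fg hν _ hH₂fg
      · exact push_fg hν _ hG₂fg)
    (fun i k P p q e => by
      rcases i with i | i <;> rcases k with k | k <;>
        simp only [HH] <;> rw [← push_comp, ← push_comp]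
      · exact keyB P _ _
      · exact (keyA P ((hDU k).of_hom q) _ _).symm
      · exact keyA P ((hDU i).of_hom p) _ _
      · exact congrArg (fun c => push hν c G₂) e)
    (fun k => by
      rcases k with k | l
      · exact (push_mono hν _ (sup_le hH'M hHM)).trans (M.le (dw k))
      · exact (push_mono hν _ hG₂M).trans (M.le (dι l)))
  let G₃ := G₃' ⊔ G
  have hQ₃ : ∀ k, push hν (du k) G₃ = push hν (dw k) H₂ := fun k => by
    rw [push_sup, show push hν (du k) G₃' = push hν (dw k) H₂ from hG₃' (.inl k), sup_eq_left]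
    exact (hH k).trans (push_mono hν _ le_sup_right)
  have hU₃ : ∀ l, push hν (dι l) G₃ = push hν (dι l) G₂ := fun l => by
    rw [push_sup, show push hν (dι l) G₃' = push hν (dι l) G₂ from hG₃' (.inr l), sup_eq_left]
    exact push_mono hν _ (le_sup_left.trans hG₂)
  refine ⟨G₃, hG₃'fg.sup hG, le_sup_right, sup_le hG₃'M hGM, fun C hC c₁ c₂ => eq_of_cover hν fun z => ?_⟩
  rcases hC z with hz | hz
  · have toU : ∀ c : CHom C U, ∃ l, c.f.left z ∈ WU l := fun c =>
      Set.mem_iUnion.1 (hWUc (show AlgSp.Points.ofPt U.b (c.f.left z) ∈ O by rwa [← ofPt_chart c]))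
    obtain ⟨l₁, hl₁⟩ := toU c₁
    obtain ⟨l₂, hl₂⟩ := toU c₂
    obtain ⟨E, e, he, hze, heW⟩ := exists_nbhd C z
      (((WU l₁).isOpen.preimage c₁.f.left.continuous).inter
        ((WU l₂).isOpen.preimage c₂.f.left.continuous)) ⟨hl₁, hl₂⟩
    have conv : ∀ (c : CHom C U) (l : Fin nU), (∀ x, c.f.left (e.f.left x) ∈ WU l) →
        push hν (e.comp c) G₃ = push hν (e.comp c) G₂ ∧ InSet O E := by
      intro c l hx
      obtain ⟨m, hm⟩ := exists_sub_lift (g := U.b) (WU l) (hWU l).1 (e.f ≫ c.f) (e.comp c).w hx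
      have h₁ : e.comp c = m.comp (dι l) := CHom.ext (by
        show e.f ≫ c.f = m.f ≫ subι (WU l) ≫ 𝟙 _
        rw [Category.comp_id, hm])
      exact ⟨by rw [h₁, push_comp, push_comp, hU₃], (hDU l).of_hom m⟩
    obtain ⟨e₁, hE⟩ := conv c₁ l₁ fun x => (heW x).1
    obtain ⟨e₂, -⟩ := conv c₂ l₂ fun x => (heW x).2
    refine ⟨E, e, inferInstance, hze, ?_⟩
    rw [← push_comp, ← push_comp, e₁, e₂]
    exact hst E hE _ _
  · obtain ⟨v, hv⟩ := hz
    obtain ⟨P, p₁, p₂, sqP⟩ := Groth.AlgSpBasic.exists_pullback_of_diag hY.diag C.b V.b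
    have : Etale p₁.left := Groth.AlgSpBasic.repWith_fst_of_isPullback sqP.flip hV
    obtain ⟨m, hm₁, hm₂⟩ := (Groth.AlgSpBasic.ofPt_eq_ofPt_iff sqP z v).1 hv.symm
    have lifts : ∀ c : CHom C U, ∃ l : P ⟶ Q, l ≫ qu = p₁ ≫ c.f ∧ l ≫ qw = p₂ := fun c => by
      obtain ⟨l, hl⟩ := (yon S).map_surjective
        (sqQ.lift ((yon S).map (p₁ ≫ c.f)) ((yon S).map p₂)
          (by rw [Functor.map_comp, Category.assoc, c.w, sqP.w]))
      exact ⟨l, (yon S).map_injective (by rw [Functor.map_comp, hl, sqQ.lift_fst]),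
        (yon S).map_injective (by rw [Functor.map_comp, hl, sqQ.lift_snd])⟩
    obtain ⟨l₁, hl₁u, hl₁w⟩ := lifts c₁
    obtain ⟨l₂, hl₂u, hl₂w⟩ := lifts c₂
    obtain ⟨k₁, hk₁⟩ := Set.mem_iUnion.1 (hWQc (Set.mem_univ (l₁.left m)))
    obtain ⟨k₂, hk₂⟩ := Set.mem_iUnion.1 (hWQc (Set.mem_univ (l₂.left m)))
    obtain ⟨W, hW, hmW, hWW⟩ := exists_isAffineOpen_mem_and_subset
      (U := (⟨_, ((WQ k₁).isOpen.preimage l₁.left.continuous).inter
        ((WQ k₂).isOpen.preimage l₂.left.continuous)⟩ : P.left.Opens)) (x := m) ⟨hk₁, hk₂⟩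
    let E := sub ((yon S).map p₁ ≫ C.b) W hW
    let e : CHom E C := subTo W hW p₁ rfl
    let d : CHom E V := subTo W hW p₂ sqP.w.symm
    have conv : ∀ (c : CHom C U) (l : P ⟶ Q) (k : Fin nQ), l ≫ qu = p₁ ≫ c.f → l ≫ qw = p₂ →
        (∀ x ∈ W, l.left x ∈ WQ k) → push hν (e.comp c) G₃ = push hν d H₂ := by
      intro c l k hu hw hx
      obtain ⟨n, hn⟩ := exists_sub_lift (g := gQ) (WQ k) (hWQ k).1 (E := E) (subι W ≫ l) (by
        show (yon S).map (subι W ≫ l) ≫ (yon S).map qw ≫ V.b =
          (yon S).map (subι W) ≫ (yon S).map p₁ ≫ C.b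
        rw [sqP.w, ← hw, Functor.map_comp, Functor.map_comp, Category.assoc, Category.assoc]) fun x =>
          hx _ x.2
      have h₁ : e.comp c = n.comp (du k) := CHom.ext (by
        show (subι W ≫ p₁) ≫ c.f = n.f ≫ subι (WQ k) ≫ qu
        rw [reassoc_of% hn, Category.assoc, hu]
        rfl)
      have h₂ : d = n.comp (dw k) := CHom.ext (by
        show subι W ≫ p₂ = n.f ≫ subι (WQ k) ≫ qw
        rw [reassoc_of% hn, hw]
        rfl)
      rw [h₁, h₂, push_comp, push_comp, hQ₃]
    refine ⟨E, e, inferInstanceAs (Etale ((subι W).left ≫ p₁.left)), ⟨⟨m, hmW⟩, hm₁⟩, ?_⟩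
    rw [← push_comp, ← push_comp, conv c₁ l₁ k₁ hl₁u hl₁w fun x hx => (hWW hx).1,
      conv c₂ l₂ k₂ hl₂u hl₂w fun x hx => (hWW hx).2]

include hY hU hUs hUq in
/-- Finitely many sections are contained in a finitely generated stable submodule. -/
theorem exists_stable_sub {N' : ℕ} (hN : W4dec.DegFibresLE N' U.b)
    (G : Submodule (fns U) (sections hν U)) (hG : G.FG) (hGM : G ≤ M.M U) :
    ∃ G', G'.FG ∧ G ≤ G' ∧ G' ≤ M.M U ∧ StableOn hν U Set.univ G' := by
  classical
  have main : ∀ k n : ℕ, n + k = N' → Good hν U M (Groth.AlgSpBasic.confSet U.b (n + 1)) := by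
    intro k
    induction k with
    | zero =>
      intro n hn
      rw [show n + 1 = N' + 1 by omega,
        Groth.AlgSpBasic.confSet_eq_empty_of_degFibresLE hY hU hN]
      exact good_empty hν U M
    | succ k ih =>
      intro n hn
      have hgood : Good hν U M (Groth.AlgSpBasic.confSet U.b (n + 2)) := ih (n + 1) (by omega)
      obtain ⟨D⟩ := Groth.AlgSpBasic.exists_distinctSpace hY hU n
      obtain ⟨Q⟩ := Groth.AlgSpBasic.exists_unorderedSpace hY hU D
      have := Q.compact hUq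
      obtain ⟨m, W, hW, hWc⟩ := exists_affine_family (isCompact_univ (X := ↥Q.V.left)) isOpen_univ
        subset_rfl
      let V : Fin m → Chart Y := fun i => sub Q.f (W i) (hW i).1
      have hstep : ∀ s : Finset (Fin m), Good hν U M (Groth.AlgSpBasic.confSet U.b (n + 2) ∪
          ⋃ i ∈ s, Set.range (AlgSp.Points.ofPt (V i).b)) := by
        intro s
        induction s using Finset.induction with
        | empty => simpa using hgood
        | insert i s hi his =>
          have hVe : RepWith @Etale (V i).b := Groth.AlgSpBasic.repWith_comp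
            ((AlgSp.repWith_yon_map_iff _ (subι (W i))).2
              (inferInstanceAs (Etale (W i).ι))) Q.f_etale
          have := good_step hν U M hY hU hUs hUq his (V i) hVe fun {T} x y e hout => by
            have h := Q.eq_of_comp_eq (v := x ≫ subι (W i)) (v' := y ≫ subι (W i))
              (by simp only [Functor.map_comp, Category.assoc]; exact e) fun t ht => hout t (by
                left
                show AlgSp.Points.ofPt ((yon S).map x ≫ (yon S).map (subι (W i)) ≫ Q.f) t ∈ _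
                simpa only [Functor.map_comp, Category.assoc] using ht)
            exact Over.OverMorphism.ext ((cancel_mono (subι (W i)).left).1
              (congrArg CommaMorphism.left h))
          convert this using 1
          rw [Finset.set_biUnion_insert, Set.union_assoc, Set.union_comm (Set.range _)]
      convert hstep Finset.univ using 1
      apply Set.Subset.antisymm
      · intro y hy
        rw [← Q.range_ofPt] at hy
        obtain ⟨v, rfl⟩ := hy
        obtain ⟨i, hi⟩ := Set.mem_iUnion.1 (hWc (Set.mem_univ v))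
        refine Or.inr (Set.mem_iUnion₂.2 ⟨i, Finset.mem_univ i, ⟨v, hi⟩, ?_⟩)
        exact Groth.AlgSpBasic.ofPt_comp_yon _ _ _
      · rintro y (hy | hy)
        · exact Groth.AlgSpBasic.confSet_antitone (by omega) hy
        · obtain ⟨i, -, v, rfl⟩ := Set.mem_iUnion₂.1 hy
          rw [← Q.range_ofPt]
          exact ⟨_, (Groth.AlgSpBasic.ofPt_comp_yon _ _ _).symm⟩
  obtain ⟨-, -, h⟩ := main N' 0 (by omega)
  obtain ⟨G', hG', hle, hG'M, hst⟩ := h G hG hGM
  refine ⟨G', hG', hle, hG'M, ?_⟩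
  rwa [Groth.AlgSpBasic.confSet_one hUs] at hst

include hY hU hUs hUq in
/-- Finitely many sections are contained in a finitely generated stable submodule. -/
theorem exists_stable {N' : ℕ} (hN : W4dec.DegFibresLE N' U.b)
    (G : Submodule (fns U) (sections hν U)) (hG : G.FG) :
    ∃ G', G'.FG ∧ G ≤ G' ∧ StableOn hν U Set.univ G' := by
  obtain ⟨G', h₁, h₂, -, h₃⟩ :=
    exists_stable_sub hν U (QSub.top hν) hY hU hUs hUq hN G hG le_top
  exact ⟨G', h₁, h₂, h₃⟩

end

end Groth.AlgSp2.QcAffine
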